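import Cfsg.Agent.Lib.M12Central.Quot

/-!
The order of a simple group with the centraliser given by the table is 95040.
-/

set_option autoImplicit false
set_option maxRecDepth 20000

namespace Cfsg.Agent.M12Central

open Cfsg.Agent.Golay.Cert Cfsg.Agent.Golay.TabList
open Cfsg.Agent.M12Central.Data Cfsg.Agent.M12Central.Facts
open Subgroup
open scoped Pointwise

attribute [local irreducible] mulTab pack

universe u

variable {G : Type u} [Group G] [Finite G]

namespace Local

theorem tclass_facts : (∀ x ∈ zT :: clA ++ clC, x ∈ elems) ∧ (zT :: clA ++ clC).length = 31 ∧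
    clB.Nodup ∧ ((zT :: clA ++ clC).all fun x => clB.all fun y =>
      (powList 12 (mulTab x y) (mulTab x y)).contains idTab) = true := by
  decide +kernel

theorem cent_x : (centL xT).length = 6 := by decide +kernel

variable {t : G} (D : Local t)

omit [Finite G] in
include D in
theorem powList_spec {x : ℕ} (hx : x ∈ elems) : ∀ (n acc : ℕ), acc ∈ elems → ∀ w,
    w ∈ powList n x acc ↔ ∃ k < n, w ∈ elems ∧ D.el w = D.el x ^ k * D.el acc
  | 0, _, _, w => by simp [powList]
  | n + 1, acc, hacc, w => by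
    rw [powList, List.mem_cons, powList_spec hx n _ (D.closed hx hacc)]
    constructor
    · rintro (rfl | ⟨k, hk, hw, e⟩)
      · exact ⟨0, by omega, hacc, by simp⟩
      · exact ⟨k + 1, by omega, hw, by rw [e, D.el_mul hx hacc, pow_succ, mul_assoc]⟩
    · rintro ⟨k, hk, hw, e⟩
      rcases k with _ | k
      · exact Or.inl (D.el_inj hw hacc (by simpa using e))
      · exact Or.inr ⟨k, by omega, hw, by rw [e, D.el_mul hx hacc, pow_succ, mul_assoc]⟩

variable [IsSimpleGroup G] (hG : ¬ IsMulCommutative G)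

include D hG

theorem tclass_iff {x : ℕ} (hx : x ∈ elems) :
    IsConj t (D.el x) ↔ x ∈ zT :: clA ++ clC := by
  constructor
  · intro h
    obtain ⟨k, hk⟩ := isConj_iff.1 h
    rcases inv_split hx ((D.orderOf_two hx).1 (by
      rw [← hk, Involutions.Basic.orderOf_conj, D.orderOf_t])) with rfl | h' | h' | h'
    · simp
    · simp [h']
    · exact absurd (h.trans (D.isConj_B h').symm) D.not_conj_b
    · simp [h']
  · intro h
    simp only [List.mem_append, List.mem_cons] at h
    rcases h with (rfl | h) | h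
    · exact isConj_iff.2 ⟨1, by simp [D.z_eq]⟩
    · exact (D.conj_a hG).trans (D.isConj_A h)
    · exact (D.conj_c hG).trans (D.isConj_C h)

theorem bclass_iff {x : ℕ} (hx : x ∈ elems) : IsConj D.b (D.el x) ↔ x ∈ clB := by
  refine ⟨fun h => ?_, fun h => D.isConj_B h⟩
  obtain ⟨k, hk⟩ := isConj_iff.1 h
  by_contra hB
  refine D.not_conj_b (IsConj.trans ((D.tclass_iff hG hx).2 ?_) h.symm)
  rcases inv_split hx ((D.orderOf_two hx).1 (by
      rw [← hk, Involutions.Basic.orderOf_conj, D.orderOf_b])) with rfl | h' | h' | h'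
  · simp
  · simp [h']
  · exact absurd h' hB
  · simp [h']

theorem two_classes (x : G) (hx : orderOf x = 2) : IsConj t x ∨ IsConj D.b x := by
  have : Fact (Nat.Prime 2) := ⟨Nat.prime_two⟩
  obtain ⟨S, hS, hcard, -, hndvd⟩ := D.exists_sylow
  have hfac : (Nat.card G).factorization 2 = 6 := by
    have hdvd : 2 ^ 6 ∣ Nat.card G := by
      have := Subgroup.card_subgroup_dvd_card S; rwa [hcard] at this
    have h1 := (Nat.Prime.pow_dvd_iff_le_factorization Nat.prime_two Nat.card_pos.ne').1 hdvd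
    have h2 : ¬ 7 ≤ (Nat.card G).factorization 2 := fun h =>
      hndvd ((Nat.Prime.pow_dvd_iff_le_factorization Nat.prime_two Nat.card_pos.ne').2 h)
    omega
  have hp : IsPGroup 2 (zpowers x) :=
    IsPGroup.of_card (n := 1) (by rw [Nat.card_zpowers, hx, pow_one])
  obtain ⟨P, hP⟩ := hp.exists_le_sylow
  obtain ⟨g, hg⟩ := MulAction.exists_smul_eq G P (Sylow.ofCard S (by rw [hcard, hfac]; norm_num))
  have hmem : g * x * g⁻¹ ∈ S := by
    have h1 : g * x * g⁻¹ ∈ MulAut.conj g • (P : Subgroup G) :=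
      Subgroup.smul_mem_pointwise_smul x (MulAut.conj g) _ (hP (mem_zpowers x))
    have h2 : MulAut.conj g • (P : Subgroup G) = S :=
      congrArg (fun Q : Sylow 2 G => (Q : Subgroup G)) hg
    rwa [h2] at h1
  have hback : IsConj (g * x * g⁻¹) x := (isConj_iff.2 ⟨g, rfl⟩ : IsConj x _).symm
  obtain ⟨i, hi, hie, hcase⟩ := D.exists_type (hS hmem) (by rw [Involutions.Basic.orderOf_conj, hx])
  rw [← hi] at hback
  rcases hcase with h | h | h | h
  · exact Or.inl (((D.tclass_iff hG hie).2 (by simp [h])).trans hback)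
  · exact Or.inl (((D.tclass_iff hG hie).2 (by simp [h])).trans hback)
  · exact Or.inr ((D.isConj_B h).trans hback)
  · exact Or.inl (((D.tclass_iff hG hie).2 (by simp [h])).trans hback)

theorem alpha_count :
    Nat.card {p : G × G // IsConj t p.1 ∧ IsConj D.b p.2 ∧ t ∈ zpowers (p.1 * p.2)} = 240 := by
  classical
  obtain ⟨hsub, -, hBnd, hord⟩ := tclass_facts
  simp only [List.all_eq_true, List.contains_iff_mem] at hord
  have hBe : ∀ y ∈ clB, y ∈ elems := fun y hy => (classB_mem hy).1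
  have hmemz : ∀ i ∈ zT :: clA ++ clC, ∀ j ∈ clB,
      (t ∈ zpowers (D.el i * D.el j) ↔ zT ∈ powList 13 (mulTab i j) idTab) := by
    intro i hi j hj
    have hie := hsub i hi
    have hje := hBe j hj
    have hm := D.closed hie hje
    rw [← D.el_mul hie hje, D.powList_spec hm 13 idTab elems_basic.2.2.1]
    simp only [D.el_one, mul_one, D.z_eq, elems_basic.2.2.2, true_and]
    constructor
    · intro h
      obtain ⟨k, -, -, e⟩ := (D.powList_spec hm 12 _ hm idTab).1 (hord i hi j hj)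
      rw [D.el_one, ← pow_succ] at e
      have hle : orderOf (D.el (mulTab i j)) ∣ k + 1 := orderOf_dvd_of_pow_eq_one e.symm
      obtain ⟨k', hk', e'⟩ : ∃ k', k' < orderOf (D.el (mulTab i j)) ∧ D.el (mulTab i j) ^ k' = t := by
        rw [mem_zpowers_iff_mem_range_orderOf] at h
        obtain ⟨k', hk', e'⟩ := Finset.mem_image.1 h
        exact ⟨k', Finset.mem_range.1 hk', e'⟩
      obtain ⟨k0, hk0, -, e0⟩ := (D.powList_spec hm 12 _ hm idTab).1 (hord i hi j hj)
      have h12 : orderOf (D.el (mulTab i j)) ≤ 12 := by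
        rw [D.el_one, ← pow_succ] at e0
        exact (Nat.le_of_dvd (by omega) (orderOf_dvd_of_pow_eq_one e0.symm)).trans (by omega)
      exact ⟨k', by omega, e'.symm⟩
    · rintro ⟨k, -, e⟩
      exact Subgroup.mem_zpowers_iff.2 ⟨(k : ℤ), by rw [zpow_natCast]; exact e.symm⟩
  let L : Finset (ℕ × ℕ) := alphaPairs.toFinset
  have hL : ∀ q : ℕ × ℕ, q ∈ L ↔
      q.1 ∈ zT :: clA ++ clC ∧ q.2 ∈ clB ∧ zT ∈ powList 13 (mulTab q.1 q.2) idTab := by
    rintro ⟨i, j⟩
    simp only [L, List.mem_toFinset, alphaPairs, List.mem_flatMap, List.mem_map, List.mem_filter,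
      List.contains_iff_mem]
    constructor
    · rintro ⟨x, hx, y, ⟨hy, hw⟩, e⟩
      obtain ⟨rfl, rfl⟩ := Prod.mk.injEq .. ▸ e
      exact ⟨hx, hy, hw⟩
    · rintro ⟨h1, h2, h3⟩
      exact ⟨i, h1, j, ⟨h2, h3⟩, rfl⟩
  have hcard : L.card = 240 := by
    rw [List.toFinset_card_of_nodup, alpha_card]
    refine List.nodup_flatMap.2 ⟨fun x _ => ?_, ?_⟩
    · exact (hBnd.filter _).map fun a b h => (Prod.mk.injEq .. ▸ h : x = x ∧ a = b).2
    · refine (lists_nodup.1).imp fun {a b} hab => ?_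
      intro q hqa hqb
      simp only [List.mem_map] at hqa hqb
      obtain ⟨y, -, rfl⟩ := hqa
      obtain ⟨y', -, e⟩ := hqb
      exact hab (congrArg Prod.fst e).symm
  rw [← hcard, ← Fintype.card_coe, ← Nat.card_eq_fintype_card]
  let F : L → {p : G × G // IsConj t p.1 ∧ IsConj D.b p.2 ∧ t ∈ zpowers (p.1 * p.2)} := fun q =>
    ⟨(D.el q.1.1, D.el q.1.2), (D.tclass_iff hG (hsub _ ((hL q.1).1 q.2).1)).2 ((hL q.1).1 q.2).1,
      D.isConj_B ((hL q.1).1 q.2).2.1,
      (hmemz _ ((hL q.1).1 q.2).1 _ ((hL q.1).1 q.2).2.1).2 ((hL q.1).1 q.2).2.2⟩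
  refine (Nat.card_congr (Equiv.ofBijective F ⟨?_, ?_⟩)).symm
  · rintro ⟨⟨i, j⟩, hq⟩ ⟨⟨i', j'⟩, hq'⟩ h
    obtain ⟨h1, h2, -⟩ := (hL _).1 hq
    obtain ⟨h1', h2', -⟩ := (hL _).1 hq'
    have e := congrArg Subtype.val h
    have ei := D.el_inj (hsub _ h1) (hsub _ h1') (congrArg Prod.fst e)
    have ej := D.el_inj (hBe _ h2) (hBe _ h2') (congrArg Prod.snd e)
    exact Subtype.ext (Prod.ext ei ej)
  · rintro ⟨⟨x, y⟩, hx, hy, hz⟩
    have hord' : ∀ {r g : G}, orderOf r = 2 → IsConj r g → orderOf g = 2 := fun {r g} hr hg => by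
      obtain ⟨k, rfl⟩ := isConj_iff.1 hg
      rw [Involutions.Basic.orderOf_conj, hr]
    obtain ⟨-, hc1, hc2⟩ := Involutions.Basic.middle_involution (hord' D.orderOf_t hx)
      (hord' D.orderOf_b hy) (Involutions.Basic.even_orderOf_mul_of_not_isConj (hord' D.orderOf_t hx)
        (hord' D.orderOf_b hy) fun h => D.not_conj_b ((hx.trans h).trans hy.symm))
    rw [← Involutions.OrderFormula.eq_middle D.orderOf_t hz] at hc1 hc2
    obtain ⟨i, hi, rfl⟩ := (D.mem' x).1 (mem_centralizer_singleton_iff.2 hc1.eq.symm)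
    obtain ⟨j, hj, rfl⟩ := (D.mem' y).1 (mem_centralizer_singleton_iff.2 hc2.eq.symm)
    have h1 := (D.tclass_iff hG hi).1 hx
    have h2 := (D.bclass_iff hG hj).1 hy
    exact ⟨⟨(i, j), (hL _).2 ⟨h1, h2, (hmemz _ h1 _ h2).1 hz⟩⟩, rfl⟩

/-- The symmetric group of degree 4 does not occur: there are too few conjugates of `t`. -/
theorem card_ne_12096 : Nat.card G ≠ 12096 := by
  classical
  have : Fintype G := Fintype.ofFinite G
  intro hcard
  have hclass : Nat.card {g : G // IsConj t g} = 63 := by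
    have h := Involutions.OrderFormula.class_card_mul t
    rw [D.card_centralizer, hcard] at h
    omega
  obtain ⟨hsub, hlen, -, -⟩ := tclass_facts
  obtain ⟨hx3, hxne, hxe, hxcent, hiC, hziC, hix⟩ := x_ok
  simp only [List.all_eq_true, List.contains_iff_mem] at hxcent
  have hie := (classC_mem hiC).1
  set x := D.el xT with hxdef
  set r := D.el iT with hrdef
  have hxx := D.closed hxe hxe
  have hx3' : x * (x * x) = 1 := by rw [← D.el_mul hxe hxe, ← D.el_mul hxe hxx, hx3, D.el_one]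
  have hxord : orderOf x = 3 := by
    have : Fact (Nat.Prime 3) := ⟨Nat.prime_three⟩
    exact orderOf_eq_prime (by rw [pow_succ', pow_two]; exact hx3')
      (fun h => hxne ((D.el_eq_one hxe).1 h))
  have hxinv : x⁻¹ = x * x := inv_eq_of_mul_eq_one_right hx3'
  have hxt : Commute x t := mem_centralizer_singleton_iff.1 (D.el_mem hxe)
  have hrt : Commute r t := mem_centralizer_singleton_iff.1 (D.el_mem hie)
  have hr2 : orderOf r = 2 := (D.orderOf_two hie).2 (classC_mem hiC).2
  have hrx : r * x * r⁻¹ = x⁻¹ := by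
    rw [hxinv, ← D.el_mul hxe hxe]
    exact D.conj_eq hie hxe hxx hix
  set K := centralizer ({x} : Set G) with hKdef
  have htK : t ∈ K := mem_centralizer_singleton_iff.2 hxt.eq.symm
  have hK4 : ¬ 2 ^ 2 ∣ Nat.card K := by
    refine not_dvd_of_fix (t := t) (Q := zpowers t) (k := 1) (zpowers_le.2 htK)
      (by rw [Nat.card_zpowers, D.orderOf_t, pow_one]) (fun n _ hn => ?_) ?_
    · have h := hn t (mem_zpowers t)
      rw [Involutions.OrderFormula.eq_middle (c := t) (by rw [Involutions.Basic.orderOf_conj, D.orderOf_t]) h,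
        D.orderOf_t]
      simp
    · rw [inf_comm, D.card_inf hxe,
        show (centL xT).length = 6 from cent_x]
      norm_num
  -- the normal complement
  have hidx : (⊥ : Subgroup K).index % 4 = 2 := by
    rw [Subgroup.index_bot]
    have h2 : 2 ∣ Nat.card K := by
      rw [← D.orderOf_t]
      exact (Subgroup.orderOf_mk t htK).symm ▸ orderOf_dvd_natCard _
    obtain ⟨m, hm⟩ := h2
    have : ¬ 2 ∣ m := fun ⟨l, hl⟩ => hK4 ⟨l, by rw [hm, hl]; ring⟩
    omega
  obtain ⟨O, hO2, htO⟩ := Involutions.ThompsonTransfer.exists_index_two_of_no_conj ⊥ hidx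
    (⟨t, htK⟩ : K) (by rw [Subgroup.orderOf_mk]; exact D.orderOf_t) (fun g hg => by
      rw [Subgroup.mem_bot, conj_eq_one_iff] at hg
      exact Involutions.Basic.ne_one D.orderOf_t (congrArg Subtype.val hg))
  have hOK : Nat.card K = Nat.card O * 2 := by rw [← O.card_mul_index, hO2]
  have hOodd : Odd (Nat.card O) := Nat.not_even_iff_odd.1 fun ⟨m, hm⟩ => hK4 ⟨m, by rw [hOK, hm]; ring⟩
  have hoddmem : ∀ g : K, Odd (orderOf g) → g ∈ O := by
    intro g hg
    obtain ⟨m, hm⟩ := hg
    have e : g = (g * g) ^ (m + 1) := by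
      rw [← pow_two, ← pow_mul, show 2 * (m + 1) = orderOf g + 1 by omega, pow_succ,
        pow_orderOf_eq_one, one_mul]
    rw [e]
    exact pow_mem (Subgroup.mul_self_mem_of_index_two hO2 g) _
  -- inverting conjugates of `t`
  let Inv : G → Type u := fun w => {y : G // IsConj t y ∧ y * w * y⁻¹ = w⁻¹}
  have hrt2 : IsConj t (r * t) := by
    have h := D.isConj_C hziC
    rw [D.el_mul elems_basic.2.2.2 hie, D.z_eq, ← hrdef, ← hrt.eq] at h
    exact (D.conj_c hG).trans h
  have hinvr : ∀ o : K, ((o : G) * r * (o : G)⁻¹) * x * ((o : G) * r * (o : G)⁻¹)⁻¹ = x⁻¹ := by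
    intro o
    have ho := mem_centralizer_singleton_iff.1 o.2
    calc (o : G) * r * (o : G)⁻¹ * x * ((o : G) * r * (o : G)⁻¹)⁻¹
        = (o : G) * (r * ((o : G)⁻¹ * (x * (o : G))) * r⁻¹) * (o : G)⁻¹ := by group
      _ = (o : G) * (r * x * r⁻¹) * (o : G)⁻¹ := by rw [← ho, inv_mul_cancel_left]
      _ = ((o : G) * x * (o : G)⁻¹)⁻¹ := by rw [hrx]; group
      _ = x⁻¹ := by rw [ho, mul_inv_cancel_right]
  have hinvrt : ∀ o : K, ((o : G) * (r * t) * (o : G)⁻¹) * x * ((o : G) * (r * t) * (o : G)⁻¹)⁻¹ = x⁻¹ := by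
    intro o
    calc (o : G) * (r * t) * (o : G)⁻¹ * x * ((o : G) * (r * t) * (o : G)⁻¹)⁻¹
        = (o : G) * r * (o : G)⁻¹ * (((o : G) * t * (o : G)⁻¹) * x * ((o : G) * t * (o : G)⁻¹)⁻¹) *
          ((o : G) * r * (o : G)⁻¹)⁻¹ := by group
      _ = (o : G) * r * (o : G)⁻¹ * x * ((o : G) * r * (o : G)⁻¹)⁻¹ := by
          have hm := mem_centralizer_singleton_iff.1 (mul_mem (mul_mem o.2 htK) (inv_mem o.2))
          rw [hm, mul_inv_cancel_right]
      _ = x⁻¹ := hinvr o
  let f : O ⊕ O → Inv x := fun p =>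
    match p with
    | Sum.inl o => ⟨(o.1 : G) * r * (o.1 : G)⁻¹,
        ((D.conj_c hG).trans (D.isConj_C hiC)).trans (isConj_iff.2 ⟨_, rfl⟩), hinvr o.1⟩
    | Sum.inr o => ⟨(o.1 : G) * (r * t) * (o.1 : G)⁻¹,
        hrt2.trans (isConj_iff.2 ⟨_, rfl⟩), hinvrt o.1⟩
  have hsep : ∀ o o' : O, (o.1 : G) * r * (o.1 : G)⁻¹ ≠ (o'.1 : G) * (r * t) * (o'.1 : G)⁻¹ := by
    intro o o' h
    set v : K := (o'⁻¹ * o : O).1
    have hv : (v : G) * r * (v : G)⁻¹ = r * t := by
      calc ((o'.1 : G)⁻¹ * (o.1 : G)) * r * ((o'.1 : G)⁻¹ * (o.1 : G))⁻¹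
          = (o'.1 : G)⁻¹ * ((o.1 : G) * r * (o.1 : G)⁻¹) * (o'.1 : G) := by group
        _ = r * t := by rw [h]; group
    have hrK : r⁻¹ * (v : G) * r ∈ K := by
      refine mem_centralizer_singleton_iff.2 ?_
      have hv' := mem_centralizer_singleton_iff.1 v.2
      have h1 : r * x⁻¹ * r⁻¹ = x := by
        rw [show r * x⁻¹ * r⁻¹ = (r * x * r⁻¹)⁻¹ by group, hrx, inv_inv]
      calc r⁻¹ * (v : G) * r * x = r⁻¹ * ((v : G) * x⁻¹) * r := by
            rw [show r⁻¹ * ((v : G) * x⁻¹) * r = r⁻¹ * (v : G) * r * (r⁻¹ * x⁻¹ * r) by group]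
            congr 1
            conv_lhs => rw [← h1]
            rw [Involutions.Basic.inv_eq hr2]
        _ = r⁻¹ * (x⁻¹ * (v : G)) * r := by
            have h3 : Commute (v : G) x := hv'
            rw [h3.inv_right.eq]
        _ = x * (r⁻¹ * (v : G) * r) := by
            rw [show r⁻¹ * (x⁻¹ * (v : G)) * r = r⁻¹ * x⁻¹ * r * (r⁻¹ * (v : G) * r) by group]
            congr 1
            conv_rhs => rw [← h1]
            rw [Involutions.Basic.inv_eq hr2]
    have hvo : Odd (orderOf v) := hOodd.of_dvd_nat (Subgroup.orderOf_dvd_natCard _ (o'⁻¹ * o).2)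
    have hmem : (⟨_, hrK⟩ : K) ∈ O := hoddmem _ (by
      rwa [Subgroup.orderOf_mk, show r⁻¹ * (v : G) * r = r⁻¹ * (v : G) * r⁻¹⁻¹ by rw [inv_inv],
        Involutions.Basic.orderOf_conj, Subgroup.orderOf_coe])
    apply htO
    have e : (⟨t, htK⟩ : K) = ⟨_, hrK⟩ * v⁻¹ := Subtype.ext (by
      show t = r⁻¹ * (v : G) * r * (v : G)⁻¹
      calc t = r⁻¹ * (r * t) := by group
        _ = r⁻¹ * ((v : G) * r * (v : G)⁻¹) := by rw [hv]
        _ = _ := by group)
    rw [e]
    exact mul_mem hmem (inv_mem (o'⁻¹ * o).2)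
  have hfib : ∀ (w : G), IsConj t w → ∀ s : Finset O,
      (∀ o ∈ s, ∀ o' ∈ s, (o.1 : G) * w * (o.1 : G)⁻¹ = (o'.1 : G) * w * (o'.1 : G)⁻¹) → s.card ≤ 3 := by
    intro w hw s hs
    rcases s.eq_empty_or_nonempty with rfl | ⟨o0, ho0⟩
    · simp
    let C := (centralizer ({w} : Set G)).subgroupOf K ⊓ O
    have hC3 : Nat.card C ≤ 3 := by
      have h1 : Nat.card C ∣ 192 := by
        rw [← D.card_centralizer, card_centralizer_conj hw]
        have := Subgroup.card_dvd_of_le (show C.map K.subtype ≤ centralizer ({w} : Set G) by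
          rintro _ ⟨c, hc, rfl⟩; exact hc.1)
        rwa [Subgroup.card_map_of_injective K.subtype_injective] at this
      have h2 : Odd (Nat.card C) := hOodd.of_dvd_nat (Subgroup.card_dvd_of_le inf_le_right)
      have h3 : Nat.card C ∣ 2 ^ 6 * 3 := by simpa using h1
      exact Nat.le_of_dvd (by norm_num)
        ((Nat.Coprime.pow_left 6 (Nat.coprime_two_left.2 h2)).symm.dvd_of_dvd_mul_left h3)
    refine le_trans ?_ hC3
    rw [← Fintype.card_coe, ← Nat.card_eq_fintype_card]
    refine Nat.card_le_card_of_injective (fun o => ⟨(o0⁻¹ * o.1 : O).1, ?_, (o0⁻¹ * o.1).2⟩) ?_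
    · show ((o0.1 : G)⁻¹ * (o.1.1 : G)) ∈ centralizer ({w} : Set G)
      refine mem_centralizer_singleton_iff.2 (mul_inv_eq_iff_eq_mul.1 ?_)
      calc (o0.1 : G)⁻¹ * (o.1.1 : G) * w * ((o0.1 : G)⁻¹ * (o.1.1 : G))⁻¹
          = (o0.1 : G)⁻¹ * ((o.1.1 : G) * w * (o.1.1 : G)⁻¹) * (o0.1 : G) := by group
        _ = w := by rw [hs o.1 o.2 o0 ho0]; group
    · intro a b hab
      exact Subtype.ext (mul_left_cancel (Subtype.ext (congrArg (fun z : C => z.1) hab)))
  have hS : 2 * Nat.card O ≤ 3 * Nat.card (Inv x) := by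
    have : Fintype (Inv x) := Fintype.ofFinite _
    have h1 := Finset.card_le_mul_card_image (f := f) (Finset.univ : Finset (O ⊕ O)) 3 ?_
    · rw [Finset.card_univ, Fintype.card_sum, ← Nat.card_eq_fintype_card] at h1
      calc 2 * Nat.card O = Nat.card O + Nat.card O := two_mul _
        _ ≤ _ := h1
        _ ≤ 3 * Nat.card (Inv x) := by
          rw [Nat.card_eq_fintype_card (α := Inv x)]
          exact Nat.mul_le_mul_left 3 (Finset.card_le_univ _)
    · intro b hb
      obtain ⟨p, -, rfl⟩ := Finset.mem_image.1 hb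
      rcases p with p | p
      · refine le_trans (le_of_eq ?_) (hfib r ((D.conj_c hG).trans (D.isConj_C hiC))
          (Finset.univ.filter fun o : O => (o.1 : G) * r * (o.1 : G)⁻¹ = (p.1 : G) * r * (p.1 : G)⁻¹)
          (fun o ho o' ho' => by
            simp only [Finset.mem_filter] at ho ho'
            rw [ho.2, ho'.2]))
        rw [← Finset.card_map ⟨Sum.inl, Sum.inl_injective⟩ (β := O ⊕ O)]
        congr 1
        ext q
        rcases q with q | q
        · simp [f]
          exact Subtype.ext_iff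
        · simp [f]
          exact fun h => hsep p q (congrArg Subtype.val h).symm
      · refine le_trans (le_of_eq ?_) (hfib (r * t) hrt2
          (Finset.univ.filter fun o : O => (o.1 : G) * (r * t) * (o.1 : G)⁻¹ =
            (p.1 : G) * (r * t) * (p.1 : G)⁻¹)
          (fun o ho o' ho' => by
            simp only [Finset.mem_filter] at ho ho'
            rw [ho.2, ho'.2]))
        rw [← Finset.card_map ⟨Sum.inr, Sum.inr_injective⟩ (β := O ⊕ O)]
        congr 1
        ext q
        rcases q with q | q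
        · simp [f]
          exact fun h => hsep q p (congrArg Subtype.val h)
        · simp [f]
          exact Subtype.ext_iff
  -- the pairs
  have hInv : ∀ w : {w : G // IsConj x w}, Nat.card (Inv w.1) = Nat.card (Inv x) := by
    intro w
    obtain ⟨g, hg⟩ := isConj_iff.1 w.2
    refine (Nat.card_congr (Equiv.subtypeEquiv (MulAut.conj g).toEquiv fun y => ?_)).symm
    rw [← hg]
    simp only [MulEquiv.toEquiv_eq_coe, EquivLike.coe_coe]
    refine and_congr ⟨fun h => h.trans (isConj_iff.2 ⟨g, rfl⟩),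
      fun h => h.trans (isConj_iff.2 ⟨g, rfl⟩ : IsConj y _).symm⟩ ?_
    rw [← MulAut.conj_apply g x, ← map_inv, ← map_inv, ← map_mul, ← map_mul]
    exact (MulAut.conj g).injective.eq_iff.symm
  have hpairs : Nat.card (Σ w : {w : G // IsConj x w}, Inv w.1) ≤
      Nat.card (Σ y : {y : G // IsConj t y}, {y' : G // IsConj t y' ∧ ¬ Commute y.1 y'}) := by
    refine Nat.card_le_card_of_injective
      (fun q => ⟨⟨q.2.1, q.2.2.1⟩, q.2.1 * q.1.1, ?_, ?_⟩) ?_
    · obtain ⟨w, y, hy, he⟩ := q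
      show IsConj t (y * w.1)
      refine hy.trans (isConj_iff.2 ⟨w.1, ?_⟩)
      have hw3 : w.1 * (w.1 * w.1) = 1 := by
        obtain ⟨g, hg⟩ := isConj_iff.1 w.2
        rw [← hg, show g * x * g⁻¹ * (g * x * g⁻¹ * (g * x * g⁻¹)) = g * (x * (x * x)) * g⁻¹ by group, hx3']
        group
      have h1 : y * w.1⁻¹ = w.1 * y := by
        rw [show y * w.1⁻¹ = (y * w.1⁻¹ * y⁻¹) * y by group,
          show y * w.1⁻¹ * y⁻¹ = (y * w.1 * y⁻¹)⁻¹ by group, he, inv_inv]
      calc w.1 * y * w.1⁻¹ = w.1 * (y * w.1⁻¹) := mul_assoc _ _ _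
        _ = w.1 * w.1 * y := by rw [h1, mul_assoc]
        _ = w.1⁻¹ * y := by rw [← inv_eq_of_mul_eq_one_right hw3]
        _ = y * w.1 := by rw [← he]; group
    · obtain ⟨w, y, hy, he⟩ := q
      show ¬ Commute y (y * w.1)
      intro hc
      obtain ⟨g, hg⟩ := isConj_iff.1 w.2
      have hy2 : orderOf y = 2 := by
        obtain ⟨k, hk⟩ := isConj_iff.1 hy
        rw [← hk, Involutions.Basic.orderOf_conj, D.orderOf_t]
      have h1 : y * w.1 * y⁻¹ = w.1 := by
        have h2 : y * (y * w.1) = y * w.1 * y := hc.eq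
        calc y * w.1 * y⁻¹ = y * w.1 * y := by rw [Involutions.Basic.inv_eq hy2]
          _ = y * (y * w.1) := h2.symm
          _ = w.1 := by rw [← mul_assoc, Involutions.Basic.inv_sq_one hy2, one_mul]
      have hsq : w.1 * w.1 = 1 := mul_eq_one_iff_eq_inv.2 (h1.symm.trans he)
      have h3 : orderOf w.1 = 3 := by rw [← hg, Involutions.Basic.orderOf_conj, hxord]
      have := orderOf_dvd_of_pow_eq_one (show w.1 ^ 2 = 1 by rw [pow_two, hsq])
      rw [h3] at this
      norm_num at this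
    · rintro ⟨w, y, hy, he⟩ ⟨w', y', hy', he'⟩ h
      simp only [Sigma.mk.injEq] at h
      obtain ⟨h1, h2⟩ := h
      obtain rfl : y = y' := congrArg Subtype.val h1
      have h3 : y * w.1 = y * w'.1 := congrArg Subtype.val (eq_of_heq h2)
      obtain rfl : w = w' := Subtype.ext (mul_left_cancel h3)
      rfl
  have hnon : ∀ y : {y : G // IsConj t y}, Nat.card {y' : G // IsConj t y' ∧ ¬ Commute y.1 y'} = 32 := by
    have h0 : Nat.card {y' : G // IsConj t y' ∧ Commute t y'} = 31 := by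
      rw [← hlen, ← List.toFinset_card_of_nodup lists_nodup.1, ← Fintype.card_coe,
        ← Nat.card_eq_fintype_card]
      refine (Nat.card_congr (Equiv.ofBijective (fun q : (zT :: clA ++ clC).toFinset =>
        (⟨D.el q.1, (D.tclass_iff hG (hsub _ (List.mem_toFinset.1 q.2))).2 (List.mem_toFinset.1 q.2),
          (mem_centralizer_singleton_iff.1 (D.el_mem (hsub _ (List.mem_toFinset.1 q.2)))).symm⟩ :
          {y' : G // IsConj t y' ∧ Commute t y'})) ⟨?_, ?_⟩)).symm
      · intro q q' h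
        exact Subtype.ext (D.el_inj (hsub _ (List.mem_toFinset.1 q.2)) (hsub _ (List.mem_toFinset.1 q'.2))
          (congrArg Subtype.val h))
      · rintro ⟨y, hy, hc⟩
        obtain ⟨i, hi, rfl⟩ := (D.mem' y).1 (mem_centralizer_singleton_iff.2 hc.eq.symm)
        exact ⟨⟨i, List.mem_toFinset.2 ((D.tclass_iff hG hi).1 hy)⟩, rfl⟩
    have h1 : Nat.card {y' : G // IsConj t y' ∧ ¬ Commute t y'} = 32 := by
      have e : Nat.card {y' : G // IsConj t y'} = Nat.card {y' : G // IsConj t y' ∧ Commute t y'} +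
          Nat.card {y' : G // IsConj t y' ∧ ¬ Commute t y'} := by
        rw [← Nat.card_sum]
        refine Nat.card_congr ((Equiv.sumCompl fun p : {y' : G // IsConj t y'} => Commute t p.1).symm.trans
          (Equiv.sumCongr ?_ ?_))
        · exact Equiv.subtypeSubtypeEquivSubtypeInter _ (fun p => Commute t p)
        · exact Equiv.subtypeSubtypeEquivSubtypeInter _ (fun p => ¬ Commute t p)
      omega
    intro y
    obtain ⟨g, hg⟩ := isConj_iff.1 y.2
    rw [← h1]
    refine (Nat.card_congr (Equiv.subtypeEquiv (MulAut.conj g).toEquiv fun z => ?_)).symm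
    rw [← hg]
    simp only [MulEquiv.toEquiv_eq_coe, EquivLike.coe_coe]
    refine and_congr ⟨fun h => h.trans (isConj_iff.2 ⟨g, rfl⟩),
      fun h => h.trans (isConj_iff.2 ⟨g, rfl⟩ : IsConj z _).symm⟩ ?_
    rw [← MulAut.conj_apply g t]
    refine not_congr ⟨fun h => h.map (MulAut.conj g), fun h => ?_⟩
    have h2 := h.map (MulAut.conj g⁻¹)
    simpa [mul_assoc] using h2
  rw [Nat.card_sigma, Nat.card_sigma, Finset.sum_congr rfl fun w _ => hInv w,
    Finset.sum_congr rfl fun y _ => hnon y, Finset.sum_const, Finset.sum_const, Finset.card_univ,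
    Finset.card_univ, smul_eq_mul, smul_eq_mul, ← Nat.card_eq_fintype_card, ← Nat.card_eq_fintype_card,
    hclass] at hpairs
  have hxclass := Involutions.OrderFormula.class_card_mul x
  rw [hcard, ← hKdef, hOK] at hxclass
  have hmul : Nat.card {w : G // IsConj x w} * (2 * Nat.card O) ≤
      Nat.card {w : G // IsConj x w} * (3 * Nat.card (Inv x)) := Nat.mul_le_mul_left _ hS
  nlinarith

theorem card_eq : Nat.card G = 95040 := by
  have hf := Involutions.OrderFormula.order_formula t D.b D.orderOf_t D.orderOf_b D.not_conj_b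
    (D.two_classes hG)
  rw [D.alpha_count hG, D.card_centralizer] at hf
  rcases D.centB_count hG with ⟨h1, h2⟩ | ⟨h1, h2⟩
  · rw [h1, h2] at hf
    exact absurd hf (D.card_ne_12096 hG)
  · rw [h1, h2] at hf
    exact hf

end Local

end Cfsg.Agent.M12Central
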