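import Cfsg.Agent.Lib.M12Central.Local
import Cfsg.Agent.Lib.Golay.Trans
import Cfsg.Agent.Lib.Involutions.OrderFormula
import Cfsg.Prelude.Def_Spor_Mathieu
import Cfsg.Prelude.Def_SporadicB

/-!
The table is the centraliser of a central involution in the Mathieu group of degree 12.
-/

set_option autoImplicit false
set_option maxRecDepth 20000

namespace Cfsg.Agent.M12Central.Model

open Cfsg Cfsg.Agent.Golay.Basic Cfsg.Agent.Golay.M24 Cfsg.Agent.Golay.Cert Cfsg.Agent.Golay.TabList
open Cfsg.Agent.Golay.Trans Cfsg.Agent.M12Central.Data Cfsg.Agent.M12Central.Facts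
open scoped Pointwise
open Subgroup

theorem square_eq : Spor.squareDodecad = maskSet 340831 := by decide +kernel

theorem tab_inM12 {x : ℕ} (h : tabOK x = true) (h' : imgTab x 340831 = 340831) :
    tabPerm x ∈ Spor.M12 := by
  refine ⟨tabPerm_mem h, ?_⟩
  show tabPerm x • Spor.squareDodecad = Spor.squareDodecad
  rw [square_eq]
  apply mask_injective
  rw [← imgTab_mask (isTab_tabPerm h), mask_maskSet (by norm_num), h']

theorem card_M12 : Nat.card Spor.M12 = 95040 := by
  have h := card_stabilizer_dodecad (d := Spor.squareDodecad)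
    (mem_dodecads_iff.2 (by decide +kernel))
  rw [← card_of_mem_iff (H := MulAction.stabilizer Cfsg.M24 Spor.squareDodecad) (K := Spor.M12)
    (fun g => ⟨fun hx => ⟨g.2, hx⟩, fun hx => hx.2⟩) inf_le_left, h]

open scoped Classical in
/-- The element of a table. -/
noncomputable def el0 (x : ℕ) : ↥Spor.M12 :=
  if h : tabPerm x ∈ Spor.M12 then ⟨tabPerm x, h⟩ else 1

theorem coe_el0 {x : ℕ} (hx : x ∈ elems) :
    ((el0 x : Spor.M12) : Equiv.Perm GolayPt) = tabPerm x ∧ IsTab x (tabPerm x) ∧ canon x = true := by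
  have h := List.all_eq_true.1 elems_tab x hx
  simp only [Bool.and_eq_true, beq_iff_eq] at h
  rw [el0, dif_pos (tab_inM12 h.1.1 h.2)]
  exact ⟨rfl, isTab_tabPerm h.1.1, h.1.2⟩

theorem el0_isTab {x : ℕ} (hx : x ∈ elems) :
    IsTab x ((el0 x : Spor.M12) : Equiv.Perm GolayPt) := by
  obtain ⟨e, h, -⟩ := coe_el0 hx
  rwa [e]

theorem el0_inj : Set.InjOn el0 {x | x ∈ elems} := fun x hx y hy h =>
  eq_of_isTab (coe_el0 hx).2.2 (coe_el0 hy).2.2 (el0_isTab hx) (h ▸ el0_isTab hy)

/-- The central involution. -/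
noncomputable def z0 : ↥Spor.M12 := el0 zT

theorem commute_z0 {x : ℕ} (hx : x ∈ elems) : el0 x * z0 = z0 * el0 x := by
  have h := List.all_eq_true.1 z_central x hx
  unfold Facts.comm at h
  rw [beq_iff_eq] at h
  apply Subtype.ext
  have h1 : IsTab (mulTab x zT) ((el0 x * z0 : Spor.M12) : Equiv.Perm GolayPt) :=
    isTab_mul (el0_isTab hx) (el0_isTab elems_basic.2.2.2)
  have h2 : IsTab (mulTab zT x) ((z0 * el0 x : Spor.M12) : Equiv.Perm GolayPt) :=
    isTab_mul (el0_isTab elems_basic.2.2.2) (el0_isTab hx)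
  rw [h] at h2
  exact h1.unique h2

theorem class_large : 495 ≤ Nat.card {u : Spor.M12 // IsConj z0 u} := by
  classical
  obtain ⟨hall, hsorted⟩ := conjs_ok
  simp only [Bool.and_eq_true, beq_iff_eq, List.all_eq_true] at hall
  obtain ⟨hlen, hall⟩ := hall
  let f : Fin conjs.length → {u : Spor.M12 // IsConj z0 u} := fun i =>
    ⟨el0 (conjs.get i).2 * z0 * (el0 (conjs.get i).2)⁻¹, isConj_iff.2 ⟨_, rfl⟩⟩
  have hf : Function.Injective f := by
    intro i j hij
    have key : ∀ i : Fin conjs.length, IsTab (conjs.get i).1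
        ((f i).1 : Equiv.Perm GolayPt) := by
      intro i p
      obtain ⟨⟨⟨h1, -⟩, h3⟩, h4⟩ := hall _ (List.get_mem conjs i)
      have hh : IsTab (conjs.get i).2 ((el0 (conjs.get i).2 : Spor.M12) : Equiv.Perm GolayPt) := by
        rw [el0, dif_pos (tab_inM12 h1 h3)]
        exact isTab_tabPerm h1
      have hp := isTab_mul hh (el0_isTab elems_basic.2.2.2)
      rw [h4] at hp
      set g : Equiv.Perm GolayPt := ((el0 (conjs.get i).2 : Spor.M12) : Equiv.Perm GolayPt)
      have hpp := hp (g⁻¹ p)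
      have e : g (g⁻¹ p) = p := g.apply_symm_apply p
      rw [mulTab, tabAt_pack _ _ _ (ix_lt _), ← hh (g⁻¹ p), e] at hpp
      exact hpp.trans (Nat.mod_eq_of_lt (Nat.mod_lt _ (by norm_num)))
    have hc : ∀ i : Fin conjs.length, canon (conjs.get i).1 = true := fun i =>
      (hall _ (List.get_mem conjs i)).1.1.2
    have e := eq_of_isTab (hc i) (hc j) (key i) (hij ▸ key j)
    have hnd : (conjs.map Prod.fst).Nodup := hsorted.imp fun h => Nat.ne_of_lt h
    have := (List.nodup_iff_injective_get.1 hnd) (a₁ := ⟨i.1, by simp⟩) (a₂ := ⟨j.1, by simp⟩)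
      (by simpa using e)
    exact Fin.ext (by simpa using congrArg Fin.val this)
  have h := Nat.card_le_card_of_injective f hf
  rwa [Nat.card_eq_fintype_card, Fintype.card_fin, hlen] at h

theorem mem_centralizer_z0 (g : Spor.M12) :
    g ∈ centralizer ({z0} : Set Spor.M12) ↔ ∃ x ∈ elems, el0 x = g := by
  classical
  have hle : Nat.card (centralizer ({z0} : Set Spor.M12)) ≤ 192 := by
    have h := Involutions.OrderFormula.class_card_mul z0
    rw [card_M12] at h
    have := class_large
    nlinarith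
  let S : Finset Spor.M12 := elems.toFinset.image el0
  let C : Finset Spor.M12 := Finset.univ.filter fun g => g ∈ centralizer ({z0} : Set Spor.M12)
  have hS : S.card = 192 := by
    rw [Finset.card_image_of_injOn (by simpa using el0_inj),
      List.toFinset_card_of_nodup elems_basic.2.1, elems_basic.1]
  have hSC : S ⊆ C := by
    intro g hg
    simp only [S, Finset.mem_image, List.mem_toFinset] at hg
    obtain ⟨x, hx, rfl⟩ := hg
    simpa [C, mem_centralizer_singleton_iff] using commute_z0 hx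
  have hC : C.card ≤ S.card := by
    rw [hS]
    refine le_trans (le_of_eq ?_) hle
    rw [Nat.card_eq_fintype_card, Fintype.card_subtype]
  have e := Finset.eq_of_subset_of_card_le hSC hC
  have := Finset.ext_iff.1 e g
  simp only [S, C, Finset.mem_image, List.mem_toFinset, Finset.mem_filter, Finset.mem_univ,
    true_and] at this
  exact this.symm

/-- The table of the centraliser in `M₁₂`. -/
noncomputable def localM12 : Local z0 where
  el := el0
  mul' x hx y hy := by
    have hmem : el0 x * el0 y ∈ centralizer ({z0} : Set Spor.M12) :=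
      mul_mem ((mem_centralizer_z0 _).2 ⟨x, hx, rfl⟩) ((mem_centralizer_z0 _).2 ⟨y, hy, rfl⟩)
    obtain ⟨w, hw, e⟩ := (mem_centralizer_z0 _).1 hmem
    have h1 : IsTab (mulTab x y) ((el0 w : Spor.M12) : Equiv.Perm GolayPt) := by
      rw [e]; exact isTab_mul (el0_isTab hx) (el0_isTab hy)
    obtain rfl := eq_of_isTab (canon_mulTab x y) (coe_el0 hw).2.2 h1 (el0_isTab hw)
    exact ⟨hw, e⟩
  inj' := el0_inj
  mem' := mem_centralizer_z0
  z_eq := rfl

theorem sylow_subgroup_card : ∃ P : Sylow 2 Spor.M12, ∀ g : Spor.M12, g ∈ P ↔ ∃ x ∈ syl, el0 x = g := by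
  obtain ⟨h, hnd, hone, -⟩ := syl_ok
  simp only [Bool.and_eq_true, beq_iff_eq, List.all_eq_true, closedList, List.contains_iff_mem] at h
  obtain ⟨⟨⟨hsub, hlen⟩, hclosed⟩, -⟩ := h
  have hmul : ∀ x ∈ syl, ∀ y ∈ syl, ∃ w ∈ syl, el0 w = el0 x * el0 y := fun x hx y hy =>
    ⟨_, hclosed x hx y hy, localM12.el_mul (hsub x hx) (hsub y hy)⟩
  let H := listSubgroup el0 syl ⟨_, hone, localM12.el_one⟩ hmul
  have hcard : Nat.card H = 2 ^ (Nat.card Spor.M12).factorization 2 := by
    rw [card_listSubgroup el0 syl _ hmul hnd (fun x hx y hy e => el0_inj (hsub x hx) (hsub y hy) e),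
      hlen, card_M12, show (95040 : ℕ) = 2 ^ 6 * 1485 by norm_num,
      Nat.factorization_mul (by norm_num) (by norm_num), Finsupp.add_apply,
      Nat.Prime.factorization_pow Nat.prime_two, Finsupp.single_eq_same,
      Nat.factorization_eq_zero_of_not_dvd (by norm_num : ¬ 2 ∣ 1485)]
    norm_num
  exact ⟨Sylow.ofCard H hcard, fun g => Iff.rfl⟩

/-- A group with the centraliser of a 2-central involution of `M₁₂` is given by the table. -/
theorem exists_local {G : Type*} [Group G] [Finite G] (u : ↥Cfsg.Spor.M12)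
    (hu : Cfsg.IsTwoCentralInvolution u) (t : G) (ht : orderOf t = 2)
    (e : centralizer ({t} : Set G) ≃* centralizer ({u} : Set ↥Cfsg.Spor.M12)) : Nonempty (Local t) := by
  have : Fact (Nat.Prime 2) := ⟨Nat.prime_two⟩
  obtain ⟨hu2, P, huP, hcen⟩ := hu
  obtain ⟨S0, hS0⟩ := sylow_subgroup_card
  obtain ⟨g, hg⟩ := MulAction.exists_smul_eq (Spor.M12) P S0
  have hmem : ∀ x : Spor.M12, g * x * g⁻¹ ∈ S0 ↔ x ∈ P := by
    intro x
    rw [← hg, Sylow.smul_def]
    show g * x * g⁻¹ ∈ MulAut.conj g • (P : Subgroup Spor.M12) ↔ _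
    rw [show g * x * g⁻¹ = MulAut.conj g • x from rfl, Subgroup.smul_mem_pointwise_smul_iff]
    rfl
  obtain ⟨x, hx, hxe⟩ := (hS0 _).1 ((hmem u).2 huP)
  obtain ⟨h, -, -, -⟩ := syl_ok
  simp only [Bool.and_eq_true, beq_iff_eq, List.all_eq_true, closedList, List.contains_iff_mem] at h
  obtain ⟨⟨⟨hsub, -⟩, -⟩, hsmall⟩ := h
  have hgu : g * u * g⁻¹ = z0 := by
    have hne : x ≠ idTab := by
      intro h
      rw [h, show el0 idTab = 1 from localM12.el_one] at hxe
      exact Involutions.Basic.ne_one hu2 (conj_eq_one_iff.1 hxe.symm)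
    have hc : syl.all (comm x) = true := by
      rw [List.all_eq_true]
      intro y hy
      rw [← localM12.commute_iff (hsub x hx) (hsub y hy)]
      show Commute (el0 x) (el0 y)
      rw [hxe]
      have h1 : g⁻¹ * el0 y * g ∈ P := (hmem _).1 (by simpa [mul_assoc] using (hS0 _).2 ⟨y, hy, rfl⟩)
      have h2 : Commute u (g⁻¹ * el0 y * g) := (hcen _ h1).symm
      have h3 := h2.map (MulAut.conj g)
      simpa [mul_assoc] using h3
    have h2 := hsmall x hx
    simp only [Bool.or_eq_true, beq_iff_eq, Bool.not_eq_true', hc] at h2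
    obtain rfl : x = zT := by simpa [hne] using h2
    exact hxe.symm
  have hmap : (centralizer ({u} : Set Spor.M12)).map (MulAut.conj g).toMonoidHom =
      centralizer ({z0} : Set Spor.M12) := by
    ext y
    simp only [Subgroup.mem_map, mem_centralizer_singleton_iff]
    constructor
    · rintro ⟨w, hw, rfl⟩
      rw [← hgu]
      show MulAut.conj g w * MulAut.conj g u = MulAut.conj g u * MulAut.conj g w
      rw [← map_mul, hw, map_mul]
    · intro hy
      refine ⟨(MulAut.conj g).symm y, (MulAut.conj g).injective ?_, (MulAut.conj g).apply_symm_apply y⟩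
      rw [map_mul, map_mul, (MulAut.conj g).apply_symm_apply]
      show y * (g * u * g⁻¹) = g * u * g⁻¹ * y
      rwa [hgu]
  exact ⟨localM12.transport ht (e.trans ((Subgroup.equivMapOfInjective _ _ (MulAut.conj g).injective).trans
    (MulEquiv.subgroupCongr hmap)))⟩

end Cfsg.Agent.M12Central.Model
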