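import Cfsg.Agent.Lib.M12Central.Strong
import Cfsg.Agent.Techniques.DihedralEight.Main
import Cfsg.Agent.Lib.Classical.Linear

/-!
The centraliser of the non-central involution: modulo that involution it is symmetric of degree
4 or 5, and the pairs of the order formula are counted there.
-/

set_option autoImplicit false
set_option maxRecDepth 20000

namespace Cfsg.Agent.M12Central

open Cfsg.Agent.Golay.Cert Cfsg.Agent.Golay.TabList
open Cfsg.Agent.M12Central.Data Cfsg.Agent.M12Central.Facts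
open Subgroup

universe u

variable {G : Type u} [Group G] [Finite G]

namespace Local

variable {t : G} (D : Local t)

theorem centB_facts : (centL bT).any (fun x => mulTab x aT == mulTab (mulTab zT aT) x) &&
    (centL bT).any (fun x => !(mulTab x x == idTab)) && aT != zT && mulTab zT aT != zT &&
    bT != zT && bT != idTab && isInv bT = true := by
  decide +kernel

include D

theorem orderOf_b : orderOf D.b = 2 :=
  (D.orderOf_two bT_mem).2 (classB_mem reps_mem.2.1).2

theorem t_mem_Cb : t ∈ centralizer ({D.b} : Set G) :=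
  mem_centralizer_singleton_iff.2 (mem_centralizer_singleton_iff.1 (D.el_mem bT_mem)).symm

theorem tb_conj : IsConj D.b (t * D.b) := by
  have h := D.isConj_B T_ok.2.2.2.1
  rwa [D.el_mul elems_basic.2.2.2 bT_mem, D.z_eq] at h

theorem conj_t_mul_b {x : G} (hx : x ∈ centralizer ({D.b} : Set G)) :
    IsConj D.b (x * t * x⁻¹ * D.b) := by
  refine D.tb_conj.trans (isConj_iff.2 ⟨x, ?_⟩)
  calc x * (t * D.b) * x⁻¹ = x * t * x⁻¹ * (x * D.b * x⁻¹) := by group
    _ = x * t * x⁻¹ * D.b := by rw [mem_centralizer_singleton_iff.1 hx, mul_inv_cancel_right]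

section Simple

variable [IsSimpleGroup G] (hG : ¬ IsMulCommutative G)

include hG

theorem exists_swap : ∃ g : G, g * t * g⁻¹ = D.a ∧ g * D.a * g⁻¹ = t := by
  obtain ⟨k, hk⟩ := isConj_iff.1 (D.conj_a hG)
  let D' := D.conjBy k
  have hta : t ∈ centralizer ({k * t * k⁻¹} : Set G) := by
    rw [hk]
    exact mem_centralizer_singleton_iff.2 (mem_centralizer_singleton_iff.1 (D.el_mem aT_mem)).symm
  obtain ⟨y, hy, hye, hcase⟩ := D'.exists_type hta D.orderOf_t
  have hcard : (centL y).length = 32 := by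
    rw [← D'.card_inf hye, hy, hk, inf_comm, D.card_inf aT_mem, cent_card.1]
  have hyA : y ∈ clA := by
    have hf := cent_all
    simp only [Bool.and_eq_true, List.all_eq_true, beq_iff_eq] at hf
    obtain ⟨⟨⟨⟨⟨-, hB⟩, hC⟩, -⟩, -⟩, -⟩ := hf
    rcases hcase with rfl | h | h | h
    · exfalso
      have e : D.el aT = D.el zT := by
        rw [D.z_eq]; exact hk.symm.trans (D'.z_eq.symm.trans hy)
      exact absurd (D.el_inj aT_mem elems_basic.2.2.2 e) (by decide +kernel)
    · exact h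
    · simp [hB y h] at hcard
    · simp [hC y h] at hcard
  obtain ⟨m, hm, e⟩ := D'.class_conj classA_ok hyA
  rw [hy] at e
  refine ⟨m * k, ?_, ?_⟩
  · calc m * k * t * (m * k)⁻¹ = m * (k * t * k⁻¹) * m⁻¹ := by group
      _ = (k * t * k⁻¹) * m * m⁻¹ := by rw [mem_centralizer_singleton_iff.1 hm]
      _ = D.a := by rw [mul_inv_cancel_right, hk]
  · refine Eq.trans ?_ e
    show m * k * D.el aT * (m * k)⁻¹ = m * (k * D.el aT * k⁻¹) * m⁻¹
    group

/-- An element of `C(b)` moving `t` to a commuting conjugate. -/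
theorem exists_move : ∃ h ∈ centralizer ({D.b} : Set G),
    Commute t (h * t * h⁻¹) ∧ h * t * h⁻¹ ≠ t := by
  classical
  obtain ⟨g1, hg1t, hg1a⟩ := D.exists_swap hG
  obtain ⟨hsw, hswe, hcard4, -⟩ := sw_ok
  have hz := elems_basic.2.2.2
  have hzae := D.closed hz aT_mem
  have hs_a : D.el swT * D.a * (D.el swT)⁻¹ = t * D.a := by
    rw [D.conj_eq hsw aT_mem hzae hswe, D.el_mul hz aT_mem, D.z_eq]
  have hs_t : D.el swT * t * (D.el swT)⁻¹ = t := by
    rw [mem_centralizer_singleton_iff.1 (D.el_mem hsw), mul_inv_cancel_right]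
  set g := D.el swT * g1 with hgdef
  have hgt : g * t * g⁻¹ = t * D.a := by
    rw [hgdef, show D.el swT * g1 * t * (D.el swT * g1)⁻¹ =
      D.el swT * (g1 * t * g1⁻¹) * (D.el swT)⁻¹ by group, hg1t, hs_a]
  have hga : g * D.a * g⁻¹ = t := by
    rw [hgdef, show D.el swT * g1 * D.a * (D.el swT * g1)⁻¹ =
      D.el swT * (g1 * D.a * g1⁻¹) * (D.el swT)⁻¹ by group, hg1a, hs_t]
  have hca : Commute t D.a := (mem_centralizer_singleton_iff.1 (D.el_mem aT_mem)).symm
  have ha2 : D.a * D.a = 1 :=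
    Involutions.Basic.inv_sq_one ((D.orderOf_two aT_mem).2 (classA_mem reps_mem.1).2)
  have ht2 : t * t = 1 := Involutions.Basic.inv_sq_one D.orderOf_t
  have hne : t * D.a ≠ t := fun h =>
    Involutions.Basic.ne_one ((D.orderOf_two aT_mem).2 (classA_mem reps_mem.1).2) (mul_eq_left.1 h)
  have hnea : D.a ≠ t := fun h =>
    absurd (D.el_inj aT_mem hz (h.trans D.z_eq.symm)) (by decide +kernel)
  -- the powers of `g` permute the three involutions cyclically
  have hpow : ∀ n : ℕ, g ^ (3 * n) * t * (g ^ (3 * n))⁻¹ = t := by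
    intro n
    induction n with
    | zero => simp
    | succ n ih =>
      rw [show 3 * (n + 1) = (1 + 1 + 1) + 3 * n by ring, pow_add,
        show g ^ (1 + 1 + 1) * g ^ (3 * n) * t * (g ^ (1 + 1 + 1) * g ^ (3 * n))⁻¹ =
          g * (g * (g * (g ^ (3 * n) * t * (g ^ (3 * n))⁻¹) * g⁻¹) * g⁻¹) * g⁻¹ by
          simp only [pow_add, pow_one]; group, ih, hgt]
      rw [show g * (t * D.a) * g⁻¹ = (g * t * g⁻¹) * (g * D.a * g⁻¹) by group, hgt, hga,
        show t * D.a * t = D.a from by rw [hca.eq, mul_assoc, ht2, mul_one], hga]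
  have hstep : ∀ n : ℕ, ¬ 3 ∣ n → g ^ n * t * (g ^ n)⁻¹ = t * D.a ∨ g ^ n * t * (g ^ n)⁻¹ = D.a := by
    intro n hn
    have e : g ^ n * t * (g ^ n)⁻¹ = g ^ (n % 3) * t * (g ^ (n % 3))⁻¹ := by
      conv_lhs => rw [← Nat.mod_add_div n 3, pow_add]
      rw [show g ^ (n % 3) * g ^ (3 * (n / 3)) * t * (g ^ (n % 3) * g ^ (3 * (n / 3)))⁻¹ =
        g ^ (n % 3) * (g ^ (3 * (n / 3)) * t * (g ^ (3 * (n / 3)))⁻¹) * (g ^ (n % 3))⁻¹ by group, hpow]
    rw [e]
    rcases (show n % 3 = 1 ∨ n % 3 = 2 by omega) with h | h <;> rw [h]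
    · exact Or.inl (by rw [pow_one, hgt])
    · refine Or.inr ?_
      rw [pow_two, show g * g * t * (g * g)⁻¹ = g * (g * t * g⁻¹) * g⁻¹ by group, hgt,
        show g * (t * D.a) * g⁻¹ = (g * t * g⁻¹) * (g * D.a * g⁻¹) by group, hgt, hga,
        hca.eq, mul_assoc, ht2, mul_one]
  -- the element of 3-power order
  have : Fact (Nat.Prime 3) := ⟨Nat.prime_three⟩
  have hpos : orderOf g ≠ 0 := (orderOf_pos g).ne'
  obtain ⟨i, m, hm, hmn⟩ : ∃ i m : ℕ, ¬ 3 ∣ m ∧ orderOf g = 3 ^ i * m :=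
    ⟨_, _, Nat.not_dvd_ordCompl Nat.prime_three hpos, (Nat.ordProj_mul_ordCompl_eq_self _ 3).symm⟩
  set g3 := g ^ m with hg3
  have hg3t : g3 * t * g3⁻¹ = t * D.a ∨ g3 * t * g3⁻¹ = D.a := hstep m hm
  have hg3pow : g3 ^ 3 ^ i = 1 := by
    rw [hg3, ← pow_mul, mul_comm m, ← hmn, pow_orderOf_eq_one]
  -- it permutes the conjugates of `b` centralising both
  let B' := {p : G // p ∈ centralizer ({t} : Set G) ∧ (Commute D.a p ∧ IsConj D.b p)}
  have hB' : Nat.card B' = 4 := by
    rw [D.card_filter (fun p => Commute D.a p ∧ IsConj D.b p) (fun x => comm aT x && clB.contains x)]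
    · decide +kernel
    intro x hx
    rw [Bool.and_eq_true, List.contains_iff_mem, D.commute_iff aT_mem hx]
    refine and_congr_right fun _ => ⟨fun hc => ?_, fun h => D.isConj_B h⟩
    obtain ⟨w, hw, hwe, hcase⟩ := D.exists_type (D.el_mem hx) (by
      obtain ⟨k, hk⟩ := isConj_iff.1 hc
      rw [← hk, Involutions.Basic.orderOf_conj, D.orderOf_b])
    obtain rfl := D.el_inj hwe hx hw
    rcases hcase with rfl | h | h | h
    · exact absurd (hc.trans (isConj_iff.2 ⟨1, by simp [D.z_eq]⟩)).symm D.not_conj_b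
    · exact absurd ((D.conj_a hG).trans ((D.isConj_A h).trans hc.symm)) D.not_conj_b
    · exact h
    · exact absurd ((D.conj_c hG).trans ((D.isConj_C h).trans hc.symm)) D.not_conj_b
  -- invariance of the four-group
  have hW : ∀ p : G, Commute t p → Commute D.a p →
      Commute t (g * p * g⁻¹) ∧ Commute D.a (g * p * g⁻¹) := by
    intro p hp hpa
    have h1 := hp.map (MulAut.conj g)
    have h2 := hpa.map (MulAut.conj g)
    simp only [MulAut.conj_apply] at h1 h2
    rw [hgt] at h1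
    rw [hga] at h2
    refine ⟨h2, ?_⟩
    have h3 := h2.mul_left h1
    rwa [← mul_assoc, ht2, one_mul] at h3
  have hWn : ∀ (n : ℕ) (p : G), Commute t p → Commute D.a p →
      Commute t (g ^ n * p * (g ^ n)⁻¹) ∧ Commute D.a (g ^ n * p * (g ^ n)⁻¹) := by
    intro n
    induction n with
    | zero => intro p h1 h2; simpa using ⟨h1, h2⟩
    | succ n ih =>
      intro p h1 h2
      obtain ⟨h3, h4⟩ := ih p h1 h2
      rw [pow_succ', show g * g ^ n * p * (g * g ^ n)⁻¹ = g * (g ^ n * p * (g ^ n)⁻¹) * g⁻¹ by group]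
      exact hW _ h3 h4
  let f : B' → B' := fun p => ⟨g3 * p.1 * g3⁻¹, by
    obtain ⟨h1, h2⟩ := hWn m p.1 (mem_centralizer_singleton_iff.1 p.2.1).symm p.2.2.1
    exact ⟨mem_centralizer_singleton_iff.2 h1.eq.symm, h2, p.2.2.2.trans (isConj_iff.2 ⟨g3, rfl⟩)⟩⟩
  have hf : Function.Injective f := fun p q h =>
    Subtype.ext ((MulAut.conj g3).injective (congrArg Subtype.val h))
  let σ : Equiv.Perm B' := Equiv.ofBijective f (Finite.injective_iff_bijective.1 hf)
  have hσn : ∀ (n : ℕ) (p : B'), ((σ ^ n) p).1 = g3 ^ n * p.1 * (g3 ^ n)⁻¹ := by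
    intro n
    induction n with
    | zero => intro p; simp
    | succ n ih =>
      intro p
      rw [pow_succ' σ, Equiv.Perm.mul_apply]
      show g3 * ((σ ^ n) p).1 * g3⁻¹ = _
      rw [ih, pow_succ' g3]
      group
  have hσ : σ ^ 3 ^ i = 1 := Equiv.ext fun p => Subtype.ext (by simp [hσn, hg3pow])
  have : Fintype B' := Fintype.ofFinite _
  obtain ⟨p, hp⟩ := Equiv.Perm.exists_fixed_point_of_prime
    (by rw [← Nat.card_eq_fintype_card, hB']; norm_num) hσ
  have hp' : g3 * p.1 * g3⁻¹ = p.1 := congrArg Subtype.val hp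
  obtain ⟨x, hx, hxe, hcase⟩ := D.exists_type p.2.1 (by
    obtain ⟨k, hk⟩ := isConj_iff.1 p.2.2.2
    rw [← hk, Involutions.Basic.orderOf_conj, D.orderOf_b])
  have hxB : x ∈ clB := by
    rcases hcase with rfl | h | h | h
    · exact absurd (p.2.2.2.trans (isConj_iff.2 ⟨1, by simp [← hx, D.z_eq]⟩)).symm D.not_conj_b
    · exact absurd ((D.conj_a hG).trans ((D.isConj_A h).trans (hx ▸ p.2.2.2.symm))) D.not_conj_b
    · exact h
    · exact absurd ((D.conj_c hG).trans ((D.isConj_C h).trans (hx ▸ p.2.2.2.symm))) D.not_conj_b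
  obtain ⟨l, hl, hle⟩ := D.class_conj classB_ok hxB
  rw [hx] at hle
  have hlt : l * t * l⁻¹ = t := by
    rw [mem_centralizer_singleton_iff.1 hl, mul_inv_cancel_right]
  have hlt' : l⁻¹ * t * l = t := by
    calc l⁻¹ * t * l = l⁻¹ * (l * t * l⁻¹) * l := by rw [hlt]
      _ = t := by group
  have hconj : l⁻¹ * g3 * l * t * (l⁻¹ * g3 * l)⁻¹ = l⁻¹ * (g3 * t * g3⁻¹) * l := by
    rw [show l⁻¹ * g3 * l * t * (l⁻¹ * g3 * l)⁻¹ = l⁻¹ * (g3 * (l * t * l⁻¹) * g3⁻¹) * l by group, hlt]
  refine ⟨l⁻¹ * g3 * l, mem_centralizer_singleton_iff.2 ?_, ?_, ?_⟩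
  · calc l⁻¹ * g3 * l * D.b = l⁻¹ * (g3 * (l * D.b * l⁻¹) * g3⁻¹) * g3 * l := by group
      _ = l⁻¹ * (l * D.b * l⁻¹) * g3 * l := by rw [hle, hp']
      _ = D.b * (l⁻¹ * g3 * l) := by group
  · rw [hconj]
    have hcm : Commute t (g3 * t * g3⁻¹) := by
      rcases hg3t with e | e <;> rw [e]
      exacts [(Commute.refl t).mul_right hca, hca]
    have := hcm.map (MulAut.conj l⁻¹)
    simp only [MulAut.conj_apply, inv_inv] at this
    rwa [hlt'] at this
  · rw [hconj]
    intro e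
    have e' : g3 * t * g3⁻¹ = t := by
      calc g3 * t * g3⁻¹ = l * (l⁻¹ * (g3 * t * g3⁻¹) * l) * l⁻¹ := by group
        _ = t := by rw [e, hlt]
    rcases hg3t with h | h <;> rw [h] at e'
    exacts [hne e', hnea e']

end Simple

end Local

end Cfsg.Agent.M12Central
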