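import Cfsg.Agent.Lib.M12Central.Data

/-!
Checks on the table of the centraliser of a central involution of the Mathieu group of degree 12.
-/

set_option autoImplicit false
set_option maxRecDepth 20000

namespace Cfsg.Agent.M12Central.Facts

open Cfsg.Agent.Golay.Cert Cfsg.Agent.Golay.TabList Cfsg.Agent.M12Central.Data

/-- Two tables commute. -/
def comm (x y : ℕ) : Bool := mulTab x y == mulTab y x

/-- The table of an involution. -/
def isInv (x : ℕ) : Bool := mulTab x x == idTab && !(x == idTab)

/-- Closed under composition. -/
def closedList (l : List ℕ) : Bool := l.all fun x => l.all fun y => l.contains (mulTab x y)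

/-- The first powers of a table. -/
def powList : ℕ → ℕ → ℕ → List ℕ
  | 0, _, _ => []
  | n + 1, x, acc => acc :: powList n x (mulTab x acc)

/-- The centraliser in the table. -/
def centL (x : ℕ) : List ℕ := elems.filter (comm x)

/-- The class of `r` consists of the conjugates of `r`. -/
def classOK (r : ℕ) (cl : List ℕ) : Bool :=
  cl.contains r && cl.all (fun x => elems.contains x && isInv x && !(x == zT) &&
      elems.any fun g => mulTab g r == mulTab x g) &&
    elems.all fun g => cl.any fun y => mulTab g r == mulTab y g

/-- The dihedral words. -/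
def dihWords : List ℕ :=
  [idTab, rT, mulTab rT rT, mulTab rT (mulTab rT rT)].flatMap fun x =>
    [x, mulTab bT x]

/-- The pairs counted in the order formula. -/
def alphaPairs : List (ℕ × ℕ) :=
  (zT :: clA ++ clC).flatMap fun x =>
    (clB.filter fun y => (powList 13 (mulTab x y) idTab).contains zT).map fun y => (x, y)

theorem elems_basic : elems.length = 192 ∧ elems.Nodup ∧ idTab ∈ elems ∧ zT ∈ elems := by
  decide +kernel

theorem z_central : elems.all (comm zT) = true := by decide +kernel

theorem center_small :
    elems.all (fun x => x == idTab || x == zT || !elems.all (comm x)) = true := by decide +kernel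

theorem z_inv : isInv zT = true := by decide +kernel

theorem syl_ok : (syl.all elems.contains && (syl.length == 64) && closedList syl &&
    syl.all (fun x => x == idTab || x == zT || !syl.all (comm x))) = true ∧ syl.Nodup ∧ idTab ∈ syl ∧
      cT ∈ syl := by
  decide +kernel

theorem half_ok : (half.all syl.contains && (half.length == 32) && closedList half &&
    half.all (fun x => !clC.contains x)) = true ∧ half.Nodup ∧ idTab ∈ half := by decide +kernel

theorem inv_cases :
    elems.all (fun x => !isInv x || x == zT || clA.contains x || clB.contains x || clC.contains x) =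
      true := by
  decide +kernel

theorem classA_ok : classOK aT clA = true := by decide +kernel

theorem classB_ok : classOK bT clB = true := by decide +kernel

theorem classC_ok : classOK cT clC = true := by decide +kernel

theorem cent_card : (centL aT).length = 32 ∧ (centL bT).length = 16 ∧ (centL cT).length = 8 := by
  decide +kernel

theorem T_ok : ((centL bT).all (fun x => (centL bT).all fun y =>
        mulTab x y == mulTab y x || mulTab x y == mulTab zT (mulTab y x)) &&
      (centL bT).any (fun x => (centL bT).any fun y => !comm x y) &&
      (centL bT).all (fun x => !(mulTab x x == bT)) &&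
      (centL bT).all (fun x => !clC.contains x) &&
      (centL bT).all (fun x => !clA.contains x || x == aT || x == mulTab zT aT)) = true ∧
    aT ∈ centL bT ∧ mulTab zT aT ∈ clA ∧ mulTab zT bT ∈ clB ∧ mulTab aT bT ∈ clB ∧
      mulTab (mulTab zT aT) bT ∈ clB := by
  decide +kernel

theorem dih_ok : rT ∈ centL bT ∧ sT ∈ centL bT ∧
    mulTab rT (mulTab rT (mulTab rT rT)) = idTab ∧ mulTab rT rT = zT ∧ mulTab sT sT = idTab ∧
    mulTab sT rT = mulTab (mulTab rT (mulTab rT rT)) sT ∧ sT ∈ clB ∧ mulTab bT sT ∈ clB ∧
    sT ∉ dihWords ∧
    (centL bT).all (fun x => dihWords.contains x || (dihWords.map fun w => mulTab w sT).contains x) =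
      true := by
  decide +kernel

theorem A8_ok : (closedList (idTab :: zT :: clA) &&
    (idTab :: zT :: clA).all (fun x => (idTab :: zT :: clA).all (comm x)) &&
    (idTab :: zT :: clA).all (fun x =>
      let d := mulTab (mulTab x bT) (mulTab x bT); d == idTab || d == zT) &&
    (idTab :: zT :: clA).any (fun x => mulTab (mulTab x bT) (mulTab x bT) == zT)) = true := by
  decide +kernel

theorem sw_ok : swT ∈ elems ∧ mulTab swT aT = mulTab (mulTab zT aT) swT ∧
    (clB.filter (comm aT)).length = 4 ∧ clB.Nodup := by
  decide +kernel

theorem c_ok : acT ∈ clA ∧ mulTab zT acT ∈ clA ∧ comm cT acT = true ∧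
    (centL cT).all (fun x => !clB.contains x) = true := by
  decide +kernel

theorem x_ok : mulTab xT (mulTab xT xT) = idTab ∧ xT ≠ idTab ∧ xT ∈ elems ∧
    (centL xT).all (fun x => [idTab, zT, xT, mulTab xT xT, mulTab zT xT,
      mulTab zT (mulTab xT xT)].contains x) = true ∧
    iT ∈ clC ∧ mulTab zT iT ∈ clC ∧ mulTab iT xT = mulTab (mulTab xT xT) iT := by
  decide +kernel

theorem alpha_card : alphaPairs.length = 240 := by decide +kernel

theorem lists_nodup : (zT :: clA ++ clC).Nodup ∧ clA.length = 6 := by decide +kernel

theorem elems_tab : elems.all (fun x => tabOK x && canon x && imgTab x 340831 == 340831) = true := by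
  decide +kernel

theorem conjs_ok : (conjs.length == 495 && conjs.all (fun p => tabOK p.2 && canon p.1 &&
    imgTab p.2 340831 == 340831 && mulTab p.2 zT == mulTab p.1 p.2)) = true ∧
    (conjs.map Prod.fst).Pairwise (· < ·) := by
  decide +kernel

end Cfsg.Agent.M12Central.Facts
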