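import Cfsg.Agent.Lib.M12Central.Local
import Cfsg.Agent.Lib.Involutions.ThompsonTransfer
import Cfsg.Agent.Lib.ZStar.Main
import Cfsg.Agent.Lib.Cores.Basic

/-!
Fusion of involutions in a simple group with the centraliser given by the table.
-/

set_option autoImplicit false
set_option maxRecDepth 20000

namespace Cfsg.Agent.M12Central

open Cfsg.Agent.Golay.Cert Cfsg.Agent.Golay.TabList
open Cfsg.Agent.M12Central.Data Cfsg.Agent.M12Central.Facts
open Subgroup

universe u

variable {G : Type u} [Group G]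

namespace Local

variable {t : G} (D : Local t)

/-- The representative of the class of size 6. -/
abbrev a : G := D.el aT

/-- The representative of the class of size 12. -/
abbrev b : G := D.el bT

/-- The representative of the class of size 24. -/
abbrev c : G := D.el cT

/-- The conjugate table, for the centraliser of a conjugate. -/
def conjBy (g : G) : Local (g * t * g⁻¹) where
  el x := g * D.el x * g⁻¹
  mul' x hx y hy := ⟨D.closed hx hy, by rw [D.el_mul hx hy]; group⟩
  inj' x hx y hy h := D.el_inj hx hy ((MulAut.conj g).injective h)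
  mem' k := by
    rw [mem_centralizer_singleton_iff]
    constructor
    · intro hk
      obtain ⟨x, hx, e⟩ := (D.mem' (g⁻¹ * k * g)).1 (mem_centralizer_singleton_iff.2 (by
        have := congrArg (fun w => g⁻¹ * w * g) hk
        simpa [mul_assoc] using this))
      exact ⟨x, hx, by rw [e]; group⟩
    · rintro ⟨x, hx, rfl⟩
      have h := mem_centralizer_singleton_iff.1 (D.el_mem hx)
      calc g * D.el x * g⁻¹ * (g * t * g⁻¹) = g * (D.el x * t) * g⁻¹ := by group
        _ = g * (t * D.el x) * g⁻¹ := by rw [h]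
        _ = g * t * g⁻¹ * (g * D.el x * g⁻¹) := by group
  z_eq := by rw [D.z_eq]

theorem classA_mem {x : ℕ} (hx : x ∈ clA) : x ∈ elems ∧ isInv x = true := by
  have h := classA_ok
  simp only [classOK, Bool.and_eq_true, List.all_eq_true, List.contains_iff_mem] at h
  exact ⟨(h.1.2 x hx).1.1.1, (h.1.2 x hx).1.1.2⟩

theorem classB_mem {x : ℕ} (hx : x ∈ clB) : x ∈ elems ∧ isInv x = true := by
  have h := classB_ok
  simp only [classOK, Bool.and_eq_true, List.all_eq_true, List.contains_iff_mem] at h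
  exact ⟨(h.1.2 x hx).1.1.1, (h.1.2 x hx).1.1.2⟩

theorem classC_mem {x : ℕ} (hx : x ∈ clC) : x ∈ elems ∧ isInv x = true := by
  have h := classC_ok
  simp only [classOK, Bool.and_eq_true, List.all_eq_true, List.contains_iff_mem] at h
  exact ⟨(h.1.2 x hx).1.1.1, (h.1.2 x hx).1.1.2⟩

theorem reps_mem : aT ∈ clA ∧ bT ∈ clB ∧ cT ∈ clC := by decide +kernel

theorem aT_mem : aT ∈ elems := (classA_mem reps_mem.1).1
theorem bT_mem : bT ∈ elems := (classB_mem reps_mem.2.1).1
theorem cT_mem : cT ∈ elems := (classC_mem reps_mem.2.2).1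

theorem class_conj {r : ℕ} {cl : List ℕ} (h : classOK r cl = true) {x : ℕ} (hx : x ∈ cl) :
    ∃ k ∈ centralizer ({t} : Set G), k * D.el r * k⁻¹ = D.el x := by
  simp only [classOK, Bool.and_eq_true, List.all_eq_true, List.contains_iff_mem, List.any_eq_true,
    beq_iff_eq] at h
  obtain ⟨⟨hr, hall⟩, -⟩ := h
  obtain ⟨⟨⟨hxe, -⟩, -⟩, g, hg, e⟩ := hall x hx
  exact ⟨D.el g, D.el_mem hg, D.conj_eq hg (hall r hr).1.1.1 hxe e⟩

theorem class_stable {r : ℕ} {cl : List ℕ} (h : classOK r cl = true) {k : G}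
    (hk : k ∈ centralizer ({t} : Set G)) {x : ℕ} (hx : x ∈ cl) :
    ∃ y ∈ cl, D.el y = k * D.el x * k⁻¹ := by
  obtain ⟨l, hl, el'⟩ := D.class_conj h hx
  obtain ⟨g, hg, eg⟩ := (D.mem' (k * l)).1 (mul_mem hk hl)
  simp only [classOK, Bool.and_eq_true, List.all_eq_true, List.contains_iff_mem, List.any_eq_true,
    beq_iff_eq] at h
  obtain ⟨⟨hr, hall⟩, horb⟩ := h
  obtain ⟨y, hy, e⟩ := horb g hg
  refine ⟨y, hy, ?_⟩
  rw [← D.conj_eq hg (hall r hr).1.1.1 (hall y hy).1.1.1 e, eg, ← el']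
  group

theorem isConj_A {x : ℕ} (hx : x ∈ clA) : IsConj D.a (D.el x) :=
  have ⟨k, _, e⟩ := D.class_conj classA_ok hx
  isConj_iff.2 ⟨k, e⟩

theorem isConj_B {x : ℕ} (hx : x ∈ clB) : IsConj D.b (D.el x) :=
  have ⟨k, _, e⟩ := D.class_conj classB_ok hx
  isConj_iff.2 ⟨k, e⟩

theorem isConj_C {x : ℕ} (hx : x ∈ clC) : IsConj D.c (D.el x) :=
  have ⟨k, _, e⟩ := D.class_conj classC_ok hx
  isConj_iff.2 ⟨k, e⟩

theorem inv_split {x : ℕ} (hx : x ∈ elems) (hi : isInv x = true) :
    x = zT ∨ x ∈ clA ∨ x ∈ clB ∨ x ∈ clC := by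
  have h := List.all_eq_true.1 inv_cases x hx
  simp only [hi, Bool.not_true, Bool.false_or, Bool.or_eq_true, beq_iff_eq,
    List.contains_iff_mem] at h
  rcases h with ((h | h) | h) | h
  exacts [Or.inl h, Or.inr (Or.inl h), Or.inr (Or.inr (Or.inl h)), Or.inr (Or.inr (Or.inr h))]

theorem exists_type {g : G} (hg : g ∈ centralizer ({t} : Set G)) (h2 : orderOf g = 2) :
    ∃ x, D.el x = g ∧ x ∈ elems ∧ (x = zT ∨ x ∈ clA ∨ x ∈ clB ∨ x ∈ clC) := by
  obtain ⟨x, hx, rfl⟩ := (D.mem' g).1 hg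
  exact ⟨x, rfl, hx, inv_split hx ((D.orderOf_two hx).1 h2)⟩

variable [Finite G]

theorem card_filter (P : G → Prop) (p : ℕ → Bool)
    (h : ∀ x ∈ elems, P (D.el x) ↔ p x = true) :
    Nat.card {g : G // g ∈ centralizer ({t} : Set G) ∧ P g} = (elems.filter p).length := by
  classical
  have e : Nat.card {g : G // g ∈ centralizer ({t} : Set G) ∧ P g} =
      Nat.card (D.el '' ((elems.filter p).toFinset : Set ℕ) : Set G) := by
    refine Nat.card_congr (Equiv.subtypeEquivRight fun g => ?_)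
    simp only [List.coe_toFinset, List.mem_filter, Set.mem_image, Set.mem_setOf_eq]
    constructor
    · rintro ⟨hg, hP⟩
      obtain ⟨x, hx, rfl⟩ := (D.mem' g).1 hg
      exact ⟨x, ⟨hx, (h x hx).1 hP⟩, rfl⟩
    · rintro ⟨x, ⟨hx, hp⟩, rfl⟩
      exact ⟨D.el_mem hx, (h x hx).2 hp⟩
  rw [e, Nat.card_coe_set_eq, Set.InjOn.ncard_image, Set.ncard_coe_finset,
    List.toFinset_card_of_nodup (elems_basic.2.1.filter _)]
  intro x hx y hy hxy
  simp only [List.coe_toFinset, List.mem_filter, Set.mem_setOf_eq] at hx hy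
  exact D.el_inj hx.1 hy.1 hxy

theorem card_inf {x : ℕ} (hx : x ∈ elems) :
    Nat.card ↥(centralizer ({t} : Set G) ⊓ centralizer ({D.el x} : Set G)) = (centL x).length := by
  refine Eq.trans ?_ (D.card_filter (fun g => g ∈ centralizer ({D.el x} : Set G)) (comm x) ?_)
  · rfl
  · intro y hy
    rw [← D.commute_iff hx hy, mem_centralizer_singleton_iff]
    exact ⟨fun h => h.symm, fun h => h.symm⟩

/-- The counts for the three classes. -/
theorem cent_all : (clA.all fun x => (centL x).length == 32) && (clB.all fun x => (centL x).length == 16) &&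
    (clC.all fun x => (centL x).length == 8) && (clC.all fun x => clB.all fun y => !comm x y) &&
    (clA.all fun x => clA.contains (mulTab zT x)) && clC.contains (mulTab cT acT) = true := by
  decide +kernel

/-- Membership in a subgroup given by a closed part of the table. -/
theorem exists_subgroup {l : List ℕ} (hsub : ∀ x ∈ l, x ∈ elems) (hone : idTab ∈ l)
    (hclosed : ∀ x ∈ l, ∀ y ∈ l, mulTab x y ∈ l) (hnd : l.Nodup) :
    ∃ H : Subgroup G, H ≤ centralizer ({t} : Set G) ∧ Nat.card H = l.length ∧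
      ∀ g, g ∈ H ↔ ∃ x ∈ l, D.el x = g :=
  ⟨listSubgroup D.el l ⟨_, hone, D.el_one⟩
      (fun x hx y hy => ⟨_, hclosed x hx y hy, D.el_mul (hsub x hx) (hsub y hy)⟩),
    by rintro g ⟨x, hx, rfl⟩; exact D.el_mem (hsub x hx),
    card_listSubgroup _ _ _ _ hnd (fun x hx y hy e => D.el_inj (hsub x hx) (hsub y hy) e),
    fun _ => Iff.rfl⟩

omit [Finite G] in
/-- A 2-subgroup whose normalisers fix `t` is Sylow if it is Sylow among those fixing `t`. -/
theorem not_dvd_of_fix [Finite G] {H Q : Subgroup G} {k : ℕ} (hQH : Q ≤ H) (hQ : Nat.card Q = 2 ^ k)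
    (hfix : ∀ n ∈ H, (∀ q ∈ Q, n * q * n⁻¹ ∈ Q) → n * t * n⁻¹ = t)
    (hC : ¬ 2 ^ (k + 1) ∣ Nat.card ↥(H ⊓ centralizer ({t} : Set G))) :
    ¬ 2 ^ (k + 1) ∣ Nat.card H := by
  have : Fact (Nat.Prime 2) := ⟨Nat.prime_two⟩
  intro hdvd
  obtain ⟨K, hK, hle⟩ := Sylow.exists_subgroup_card_pow_succ hdvd (H := Q.subgroupOf H)
    (by rw [Nat.card_congr (Subgroup.subgroupOfEquivOfLe hQH).toEquiv, hQ])
  have hidx : ((Q.subgroupOf H).subgroupOf K).index = 2 := by
    have h1 := Subgroup.card_mul_index ((Q.subgroupOf H).subgroupOf K)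
    rw [Nat.card_congr (Subgroup.subgroupOfEquivOfLe hle).toEquiv,
      Nat.card_congr (Subgroup.subgroupOfEquivOfLe hQH).toEquiv, hQ, hK, pow_succ] at h1
    exact Nat.eq_of_mul_eq_mul_left (pow_pos two_pos k) h1
  have hn := Subgroup.normal_of_index_eq_two hidx
  apply hC
  rw [← hK, ← Subgroup.card_map_of_injective (K := K) H.subtype_injective]
  refine Subgroup.card_dvd_of_le ?_
  rintro g ⟨n, hn', rfl⟩
  refine ⟨n.2, mem_centralizer_singleton_iff.2 ?_⟩
  have h2 := hfix n.1 n.2 fun q hq => by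
    have h3 := hn.conj_mem ⟨⟨q, hQH hq⟩, hle (by simpa [Subgroup.mem_subgroupOf] using hq)⟩
      (by simpa [Subgroup.mem_subgroupOf] using hq) ⟨n, hn'⟩
    simpa [Subgroup.mem_subgroupOf] using h3
  exact mul_inv_eq_iff_eq_mul.1 h2

include D in
theorem exists_sylow : ∃ S : Subgroup G, S ≤ centralizer ({t} : Set G) ∧ Nat.card S = 64 ∧
    (∀ g, g ∈ S ↔ ∃ x ∈ syl, D.el x = g) ∧ ¬ 2 ^ 7 ∣ Nat.card G := by
  obtain ⟨h, hnd, hone, -⟩ := syl_ok
  simp only [Bool.and_eq_true, beq_iff_eq, List.all_eq_true, closedList, List.contains_iff_mem] at h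
  obtain ⟨⟨⟨hsub, hlen⟩, hclosed⟩, hcen⟩ := h
  obtain ⟨S, hS, hcard, hmem⟩ := D.exists_subgroup hsub hone hclosed hnd
  rw [hlen] at hcard
  refine ⟨S, hS, hcard, hmem, ?_⟩
  have hz : zT ∈ syl := by decide +kernel
  have key := not_dvd_of_fix (t := t) (H := ⊤) (Q := S) (k := 6) le_top hcard (fun n _ hn => ?_) ?_
  · rwa [Subgroup.card_top] at key
  · obtain ⟨x, hx, e⟩ := (hmem _).1 (hn t ((hmem t).2 ⟨zT, hz, D.z_eq⟩))
    have hne : x ≠ idTab := by
      intro h
      rw [h, D.el_one] at e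
      exact Involutions.Basic.ne_one D.orderOf_t (conj_eq_one_iff.1 e.symm)
    have hall : syl.all (comm x) = true := by
      rw [List.all_eq_true]
      intro y hy
      rw [← D.commute_iff (hsub x hx) (hsub y hy), e]
      -- the map `q ↦ n q n⁻¹` is onto `S`
      let f : S → S := fun q => ⟨n * q.1 * n⁻¹, hn q.1 q.2⟩
      have hf : Function.Injective f := fun p q h =>
        Subtype.ext ((MulAut.conj n).injective (congrArg Subtype.val h))
      obtain ⟨q, hq⟩ := (Finite.injective_iff_surjective.1 hf) ⟨D.el y, (hmem _).2 ⟨y, hy, rfl⟩⟩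
      have hqy : n * q.1 * n⁻¹ = D.el y := congrArg Subtype.val hq
      rw [← hqy]
      have hq2 : Commute t q.1 := (mem_centralizer_singleton_iff.1 (hS q.2)).symm
      simpa using hq2.map (MulAut.conj n)
    have h2 := hcen x hx
    simp only [Bool.or_eq_true, beq_iff_eq, Bool.not_eq_true', hall] at h2
    obtain rfl : x = zT := by simpa [hne] using h2
    rw [← e, D.z_eq]
  · rw [top_inf_eq, D.card_centralizer]; norm_num

theorem card_C_b : ¬ 2 ^ 5 ∣ Nat.card (centralizer ({D.b} : Set G)) ∧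
    (centralizer ({t} : Set G) ⊓ centralizer ({D.b} : Set G)) ≤ centralizer ({t} : Set G) ∧
    Nat.card ↥(centralizer ({t} : Set G) ⊓ centralizer ({D.b} : Set G)) = 16 := by
  have hcard : Nat.card ↥(centralizer ({t} : Set G) ⊓ centralizer ({D.b} : Set G)) = 16 := by
    rw [D.card_inf bT_mem, cent_card.2.1]
  refine ⟨?_, inf_le_left, hcard⟩
  refine not_dvd_of_fix (t := t) (Q := centralizer ({t} : Set G) ⊓ centralizer ({D.b} : Set G))
    inf_le_right (k := 4) hcard (fun n _ hn => ?_) (by rw [inf_comm, hcard]; norm_num)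
  obtain ⟨hT, -⟩ := T_ok
  simp only [Bool.and_eq_true, List.all_eq_true, List.any_eq_true, Bool.or_eq_true, beq_iff_eq,
    Bool.not_eq_true'] at hT
  obtain ⟨⟨⟨⟨hcomm, x, hx, y, hy, hxy⟩, -⟩, -⟩, -⟩ := hT
  have hmemT : ∀ x ∈ centL bT, D.el x ∈ centralizer ({t} : Set G) ⊓ centralizer ({D.b} : Set G) := by
    intro x hx
    simp only [centL, List.mem_filter] at hx
    exact ⟨D.el_mem hx.1, mem_centralizer_singleton_iff.2 ((D.commute_iff bT_mem hx.1).2 hx.2).symm⟩
  have hx' := (List.mem_filter.1 hx).1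
  have hy' := (List.mem_filter.1 hy).1
  have key : ∀ p ∈ centralizer ({t} : Set G) ⊓ centralizer ({D.b} : Set G),
      ∀ q ∈ centralizer ({t} : Set G) ⊓ centralizer ({D.b} : Set G),
        p * q = q * p ∨ p * q = t * (q * p) := by
    intro p hp q hq
    obtain ⟨i, hi, rfl⟩ := (D.mem' p).1 hp.1
    obtain ⟨j, hj, rfl⟩ := (D.mem' q).1 hq.1
    have hi' : i ∈ centL bT := List.mem_filter.2 ⟨hi,
      (D.commute_iff bT_mem hi).1 (mem_centralizer_singleton_iff.1 hp.2).symm⟩
    have hj' : j ∈ centL bT := List.mem_filter.2 ⟨hj,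
      (D.commute_iff bT_mem hj).1 (mem_centralizer_singleton_iff.1 hq.2).symm⟩
    rcases hcomm i hi' j hj' with e | e
    · exact Or.inl (by rw [← D.el_mul hi hj, e, D.el_mul hj hi])
    · refine Or.inr ?_
      rw [← D.el_mul hi hj, e, D.el_mul elems_basic.2.2.2 (D.closed hj hi), D.z_eq, D.el_mul hj hi]
  have hne : D.el x * D.el y ≠ D.el y * D.el x := fun h =>
    by simpa [hxy] using (D.commute_iff hx' hy').1 h
  have h1 := (key _ (hmemT x hx) _ (hmemT y hy)).resolve_left hne
  have hne2 : (n * D.el x * n⁻¹) * (n * D.el y * n⁻¹) ≠ (n * D.el y * n⁻¹) * (n * D.el x * n⁻¹) :=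
    fun h => hne ((MulAut.conj n).injective (by simpa [mul_assoc] using h))
  have h2 := (key _ (hn _ (hmemT x hx)) _ (hn _ (hmemT y hy))).resolve_left hne2
  have h3 := congrArg (fun w => n * w * n⁻¹) h1
  apply mul_right_cancel (b := n * (D.el y * D.el x) * n⁻¹)
  calc n * t * n⁻¹ * (n * (D.el y * D.el x) * n⁻¹) = n * (t * (D.el y * D.el x)) * n⁻¹ := by group
    _ = (n * D.el x * n⁻¹) * (n * D.el y * n⁻¹) := by rw [← h3]; group
    _ = _ := by rw [h2]; group

theorem card_centralizer_conj {x y : G} (h : IsConj x y) :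
    Nat.card (centralizer ({x} : Set G)) = Nat.card (centralizer ({y} : Set G)) := by
  obtain ⟨g, rfl⟩ := isConj_iff.1 h
  refine Nat.card_congr (Equiv.subtypeEquiv (MulAut.conj g).toEquiv fun k => ?_)
  simp only [mem_centralizer_singleton_iff, MulEquiv.toEquiv_eq_coe, EquivLike.coe_coe]
  rw [← MulAut.conj_apply g x, ← map_mul, ← map_mul]
  exact (MulAut.conj g).injective.eq_iff.symm

theorem not_conj_b : ¬ IsConj t D.b := fun h => by
  have h1 := D.card_C_b.1
  rw [← card_centralizer_conj h, D.card_centralizer] at h1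
  norm_num at h1

section Simple

variable [IsSimpleGroup G] (hG : ¬ IsMulCommutative G)

include hG D

theorem no_index_two (H : Subgroup G) : H.index ≠ 2 := fun h => by
  rcases (Subgroup.normal_of_index_eq_two h).eq_bot_or_eq_top with hb | ht
  · rw [hb, Subgroup.index_bot] at h
    have h1 := Subgroup.card_subgroup_dvd_card (centralizer ({t} : Set G))
    rw [D.card_centralizer, h] at h1
    norm_num at h1
  · rw [ht, Subgroup.index_top] at h
    norm_num at h

theorem exists_fused : ∃ g : G, g * t * g⁻¹ ∈ centralizer ({t} : Set G) ∧ g * t * g⁻¹ ≠ t := by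
  by_contra hcon
  push Not at hcon
  have hiso : Cfsg.IsIsolatedInvolution t :=
    ⟨D.orderOf_t, fun g hg => hcon g (mem_centralizer_singleton_iff.2 hg.symm)⟩
  have hO : Cfsg.oddCore G = ⊥ := by
    rcases (inferInstance : (Cfsg.oddCore G).Normal).eq_bot_or_eq_top with h | h
    · exact h
    · exfalso
      have h1 := Cores.oddCore_odd (G := G)
      rw [h, Subgroup.card_top] at h1
      have h2 := D.orderOf_t ▸ orderOf_dvd_natCard t
      exact (Nat.not_even_iff_odd.2 h1) (even_iff_two_dvd.2 h2)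
  have hc := ZStar.Main.mem_center_of_isolated hO hiso
  rcases (inferInstance : (Subgroup.center G).Normal).eq_bot_or_eq_top with h | h
  · rw [h, Subgroup.mem_bot] at hc
    exact Involutions.Basic.ne_one D.orderOf_t hc
  · exact hG ⟨⟨fun p q => (Subgroup.mem_center_iff.1 (h ▸ mem_top q) p)⟩⟩

theorem conj_a : IsConj t D.a := by
  by_contra hna
  obtain ⟨g, hg, hgne⟩ := D.exists_fused hG
  have ht2 := D.orderOf_t
  obtain ⟨x, hx, -, hcase⟩ := D.exists_type hg (by rw [Involutions.Basic.orderOf_conj, ht2])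
  have htx : IsConj t (D.el x) := isConj_iff.2 ⟨g, hx.symm⟩
  rcases hcase with rfl | h | h | h
  · exact hgne (hx.symm.trans D.z_eq)
  · exact hna (htx.trans (D.isConj_A h).symm)
  · exact D.not_conj_b (htx.trans (D.isConj_B h).symm)
  -- now `t` is conjugate to `c`
  obtain ⟨k, hk⟩ := isConj_iff.1 (htx.trans (D.isConj_C h).symm)
  let D' := D.conjBy k
  have hzel := elems_basic.2.2.2
  have hfacts := cent_all
  simp only [Bool.and_eq_true, List.all_eq_true, beq_iff_eq, List.contains_iff_mem,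
    Bool.not_eq_true'] at hfacts
  obtain ⟨⟨⟨⟨⟨hA, hB⟩, hC⟩, hCB⟩, hzA⟩, hcac⟩ := hfacts
  have hcT := (classC_mem reps_mem.2.2)
  have htC' : t ∈ centralizer ({k * t * k⁻¹} : Set G) := by
    rw [hk]
    exact mem_centralizer_singleton_iff.2 (mem_centralizer_singleton_iff.1 (D.el_mem cT_mem)).symm
  obtain ⟨y, hy, hye, hcase'⟩ := D'.exists_type htC' ht2
  have hcard : (centL y).length = 8 := by
    rw [← D'.card_inf hye, hy, hk, inf_comm, D.card_inf cT_mem, cent_card.2.2]
  have hyC : y ∈ clC := by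
    rcases hcase' with rfl | h' | h' | h'
    · exfalso
      have e : D.el cT = D.el zT := by
        rw [D.z_eq]; exact hk.symm.trans (D'.z_eq.symm.trans hy)
      exact absurd (D.el_inj cT_mem hzel e) (by decide +kernel)
    · simp [hA y h'] at hcard
    · simp [hB y h'] at hcard
    · exact h'
  -- the element of the class of `a` commuting with `c`
  obtain ⟨hac, -, hcomm, -⟩ := c_ok
  have hace := (classA_mem hac)
  have hacC' : D.el acT ∈ centralizer ({k * t * k⁻¹} : Set G) := by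
    rw [hk]
    exact mem_centralizer_singleton_iff.2 ((D.commute_iff cT_mem hace.1).2 hcomm).symm
  obtain ⟨w, hw, hwe, hcase''⟩ := D'.exists_type hacC' ((D.orderOf_two hace.1).2 hace.2)
  have haac : IsConj D.a (D.el acT) := D.isConj_A hac
  have hwA : w ∈ clA := by
    rcases hcase'' with rfl | h' | h' | h'
    · exfalso
      have e : D.c = D.el acT := by rw [← hw, D'.z_eq, hk]
      exact absurd (D.el_inj cT_mem hace.1 e) (by decide +kernel)
    · exact h'
    · exfalso
      have hne := hCB y hyC w h'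
      have hc : Commute t (D.el acT) := (mem_centralizer_singleton_iff.1 (D.el_mem hace.1)).symm
      have hc' : Commute (D'.el y) (D'.el w) := by rw [hy, hw]; exact hc
      rw [D'.commute_iff hye hwe, hne] at hc'
      exact Bool.false_ne_true hc'
    · exfalso
      refine hna (IsConj.trans ?_ haac.symm)
      rw [← hw]
      refine IsConj.trans (htx.trans (D.isConj_C h).symm) (IsConj.trans ?_ (D'.isConj_C h'))
      exact isConj_iff.2 ⟨k, rfl⟩
  apply hna
  have e1 : D'.el (mulTab zT w) = D.el (mulTab cT acT) := by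
    rw [D'.el_mul hzel hwe, D'.z_eq, hw, hk, D.el_mul cT_mem hace.1]
  have h1 : IsConj D.a (D'.el (mulTab zT w)) :=
    IsConj.trans (isConj_iff.2 ⟨k, rfl⟩ : IsConj D.a D'.a) (D'.isConj_A (hzA w hwA))
  rw [e1] at h1
  exact ((htx.trans (D.isConj_C h).symm).trans (D.isConj_C (of_decide_eq_true hcac))).trans h1.symm

theorem c_cases : IsConj t D.c ∨ (IsConj D.b D.c ∧ ¬ IsConj t D.c) := by
  by_cases htc : IsConj t D.c
  · exact Or.inl htc
  refine Or.inr ⟨?_, htc⟩
  have : Fact (Nat.Prime 2) := ⟨Nat.prime_two⟩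
  obtain ⟨S, hS, hcard, hmem, hndvd⟩ := D.exists_sylow
  obtain ⟨h, hnd, hone⟩ := half_ok
  simp only [Bool.and_eq_true, beq_iff_eq, List.all_eq_true, closedList, List.contains_iff_mem,
    Bool.not_eq_true', List.contains_eq_mem, decide_eq_false_iff_not] at h
  obtain ⟨⟨⟨hsub, hlen⟩, hclosed⟩, hnoC⟩ := h
  have hsub' : ∀ x ∈ half, x ∈ syl := fun x hx => by simpa using hsub x hx
  have hsyl : ∀ x ∈ syl, x ∈ elems := by
    obtain ⟨h, -⟩ := syl_ok
    simp only [Bool.and_eq_true, List.all_eq_true, List.contains_iff_mem] at h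
    exact h.1.1.1
  obtain ⟨M, -, hMc, hMmem⟩ := D.exists_subgroup (fun x hx => hsyl x (hsub' x hx)) hone
    (fun x hx y hy => by simpa using hclosed x hx y hy) hnd
  rw [hlen] at hMc
  have hMS : M ≤ S := fun g hg => by
    obtain ⟨x, hx, rfl⟩ := (hMmem g).1 hg
    exact (hmem _).2 ⟨x, hsub' x hx, rfl⟩
  have hrel : M.relIndex S = 2 := by
    have h1 := Subgroup.relIndex_mul_relIndex (⊥ : Subgroup G) M S bot_le hMS
    rw [Subgroup.relIndex_bot_left, Subgroup.relIndex_bot_left, hMc, hcard] at h1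
    omega
  have hfac : (Nat.card G).factorization 2 = 6 := by
    have hdvd : 2 ^ 6 ∣ Nat.card G := by
      have := Subgroup.card_subgroup_dvd_card S; rwa [hcard] at this
    have h1 := (Nat.Prime.pow_dvd_iff_le_factorization Nat.prime_two Nat.card_pos.ne').1 hdvd
    have h2 : ¬ 7 ≤ (Nat.card G).factorization 2 := fun h =>
      hndvd ((Nat.Prime.pow_dvd_iff_le_factorization Nat.prime_two Nat.card_pos.ne').2 h)
    omega
  obtain ⟨g, hg⟩ := Involutions.ThompsonTransfer.exists_conj_mem (D.no_index_two hG)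
    (Sylow.ofCard S (by rw [hcard, hfac]; norm_num)) M hMS hrel D.c
    ((D.orderOf_two cT_mem).2 (classC_mem reps_mem.2.2).2)
  obtain ⟨x, hx, e⟩ := (hMmem _).1 hg
  have hcx : IsConj D.c (D.el x) := isConj_iff.2 ⟨g, e.symm⟩
  rcases inv_split (hsyl x (hsub' x hx)) ((D.orderOf_two (hsyl x (hsub' x hx))).1 (by
    rw [e, Involutions.Basic.orderOf_conj]
    exact (D.orderOf_two cT_mem).2 (classC_mem reps_mem.2.2).2)) with rfl | h' | h' | h'
  · exact absurd (D.z_eq ▸ hcx).symm htc
  · exact absurd ((D.conj_a hG).trans ((D.isConj_A h').trans hcx.symm)) htc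
  · exact (D.isConj_B h').trans hcx.symm
  · exact absurd h' (hnoC x hx)

end Simple

end Local

end Cfsg.Agent.M12Central
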