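import Cfsg.Agent.Lib.M12Central.Facts
import Cfsg.Agent.Lib.Involutions.Basic

/-!
An involution centraliser presented by the table of the centraliser of a central involution of
the Mathieu group of degree 12.
-/

set_option autoImplicit false

namespace Cfsg.Agent.M12Central

open Cfsg.Agent.Golay.Cert Cfsg.Agent.Golay.TabList
open Cfsg.Agent.M12Central.Data Cfsg.Agent.M12Central.Facts
open Subgroup

universe u

variable {G : Type u} [Group G]

/-- The subgroup whose elements are the values of `f` on a closed list. -/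
def listSubgroup [Finite G] (f : ℕ → G) (l : List ℕ) (hne : ∃ x ∈ l, f x = 1)
    (hmul : ∀ x ∈ l, ∀ y ∈ l, ∃ w ∈ l, f w = f x * f y) : Subgroup G where
  carrier := {g | ∃ x ∈ l, f x = g}
  one_mem' := hne
  mul_mem' := by
    rintro a b ⟨x, hx, rfl⟩ ⟨y, hy, rfl⟩
    exact hmul x hx y hy
  inv_mem' := by
    rintro a ⟨x, hx, rfl⟩
    have hp : ∀ n : ℕ, ∃ w ∈ l, f w = f x ^ n := by
      intro n
      induction n with
      | zero => simpa using hne
      | succ n ih =>
        obtain ⟨w, hw, e⟩ := ih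
        obtain ⟨v, hv, e'⟩ := hmul w hw x hx
        exact ⟨v, hv, by rw [e', e, pow_succ]⟩
    obtain ⟨w, hw, e⟩ := hp (orderOf (f x) - 1)
    refine ⟨w, hw, e.trans (inv_eq_of_mul_eq_one_right ?_).symm⟩
    rw [← pow_succ', Nat.sub_add_cancel (orderOf_pos _), pow_orderOf_eq_one]

theorem card_listSubgroup [Finite G] (f : ℕ → G) (l : List ℕ) (hne : ∃ x ∈ l, f x = 1)
    (hmul : ∀ x ∈ l, ∀ y ∈ l, ∃ w ∈ l, f w = f x * f y) (hnd : l.Nodup)
    (hinj : Set.InjOn f {x | x ∈ l}) : Nat.card (listSubgroup f l hne hmul) = l.length := by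
  classical
  have e : Nat.card (listSubgroup f l hne hmul) = Nat.card (f '' (l.toFinset : Set ℕ) : Set G) :=
    Nat.card_congr (Equiv.subtypeEquivRight fun g => by simp [listSubgroup])
  rw [e, Nat.card_coe_set_eq, Set.InjOn.ncard_image (by simpa using hinj), Set.ncard_coe_finset,
    List.toFinset_card_of_nodup hnd]

/-- The centraliser of `t` is given by the table `elems`, with `t` at `zT`. -/
structure Local (t : G) where
  /-- The element of a table. -/
  el : ℕ → G
  mul' : ∀ x ∈ elems, ∀ y ∈ elems, mulTab x y ∈ elems ∧ el (mulTab x y) = el x * el y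
  inj' : Set.InjOn el {x | x ∈ elems}
  mem' : ∀ g, g ∈ centralizer ({t} : Set G) ↔ ∃ x ∈ elems, el x = g
  z_eq : el zT = t

theorem id_mul_id : mulTab idTab idTab = idTab := by decide +kernel

variable {t : G} (D : Local t)

namespace Local

include D in
theorem closed {x y : ℕ} (hx : x ∈ elems) (hy : y ∈ elems) : mulTab x y ∈ elems :=
  (Local.mul' D x hx y hy).1

theorem el_mul {x y : ℕ} (hx : x ∈ elems) (hy : y ∈ elems) :
    D.el (mulTab x y) = D.el x * D.el y :=
  (Local.mul' D x hx y hy).2

theorem el_inj {x y : ℕ} (hx : x ∈ elems) (hy : y ∈ elems) (h : D.el x = D.el y) : x = y :=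
  D.inj' hx hy h

theorem el_mem {x : ℕ} (hx : x ∈ elems) : D.el x ∈ centralizer ({t} : Set G) :=
  (D.mem' _).2 ⟨x, hx, rfl⟩

theorem el_one : D.el idTab = 1 := by
  have h := D.el_mul elems_basic.2.2.1 elems_basic.2.2.1
  rw [id_mul_id] at h
  exact left_eq_mul.1 h

theorem el_eq_one {x : ℕ} (hx : x ∈ elems) : D.el x = 1 ↔ x = idTab :=
  ⟨fun h => D.el_inj hx elems_basic.2.2.1 (h.trans D.el_one.symm), fun h => h ▸ D.el_one⟩

theorem commute_iff {x y : ℕ} (hx : x ∈ elems) (hy : y ∈ elems) :
    Commute (D.el x) (D.el y) ↔ comm x y = true := by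
  unfold Facts.comm
  rw [beq_iff_eq, Commute, SemiconjBy, ← D.el_mul hx hy, ← D.el_mul hy hx]
  exact ⟨fun h => D.el_inj (D.closed hx hy) (D.closed hy hx) h, fun h => congrArg D.el h⟩

theorem conj_eq {g x y : ℕ} (hg : g ∈ elems) (hx : x ∈ elems) (hy : y ∈ elems)
    (h : mulTab g x = mulTab y g) : D.el g * D.el x * (D.el g)⁻¹ = D.el y := by
  rw [← D.el_mul hg hx, h, D.el_mul hy hg, mul_inv_cancel_right]

theorem orderOf_two {x : ℕ} (hx : x ∈ elems) : orderOf (D.el x) = 2 ↔ isInv x = true := by
  rw [Involutions.Basic.orderOf_two_iff, ← D.el_mul hx hx]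
  simp only [isInv, Bool.and_eq_true, beq_iff_eq, Bool.not_eq_true', beq_eq_false_iff_ne, ne_eq]
  rw [D.el_eq_one (D.closed hx hx), D.el_eq_one hx]

include D in
theorem orderOf_t : orderOf t = 2 := by
  rw [← D.z_eq]
  exact (D.orderOf_two elems_basic.2.2.2).2 z_inv

include D in
theorem card_centralizer [Finite G] : Nat.card (centralizer ({t} : Set G)) = 192 := by
  classical
  have e : Nat.card (centralizer ({t} : Set G)) = Nat.card (D.el '' (elems.toFinset : Set ℕ) : Set G) :=
    Nat.card_congr (Equiv.subtypeEquivRight fun g => by simp [D.mem'])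
  rw [e, Nat.card_coe_set_eq, Set.InjOn.ncard_image (by simpa using D.inj'), Set.ncard_coe_finset,
    List.toFinset_card_of_nodup elems_basic.2.1, elems_basic.1]

open scoped Classical in
/-- The centraliser is given back by an isomorphic centraliser. -/
noncomputable def transport {H : Type*} [Group H] [Finite G] {s : H}
    (hs : orderOf s = 2) (φ : centralizer ({s} : Set H) ≃* centralizer ({t} : Set G)) : Local s where
  el x := if h : D.el x ∈ centralizer ({t} : Set G) then (φ.symm ⟨D.el x, h⟩ : H) else 1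
  mul' x hx y hy := by
    refine ⟨D.closed hx hy, ?_⟩
    rw [dif_pos (D.el_mem hx), dif_pos (D.el_mem hy), dif_pos (D.el_mem (D.closed hx hy)),
      ← Subgroup.coe_mul, ← map_mul]
    congr 2
    exact Subtype.ext (D.el_mul hx hy)
  inj' x hx y hy h := by
    beta_reduce at h
    rw [dif_pos (D.el_mem hx), dif_pos (D.el_mem hy)] at h
    exact D.el_inj hx hy (congrArg Subtype.val (φ.symm.injective (Subtype.ext h)))
  mem' g := by
    constructor
    · intro hg
      obtain ⟨x, hx, e⟩ := (D.mem' _).1 (φ ⟨g, hg⟩).2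
      refine ⟨x, hx, ?_⟩
      rw [dif_pos (D.el_mem hx)]
      have e' : (⟨D.el x, D.el_mem hx⟩ : centralizer ({t} : Set G)) = φ ⟨g, hg⟩ := Subtype.ext e
      rw [e', φ.symm_apply_apply]
    · rintro ⟨x, hx, rfl⟩
      rw [dif_pos (D.el_mem hx)]
      exact SetLike.coe_mem _
  z_eq := by
    have hzm := elems_basic.2.2.2
    have hsC : s ∈ centralizer ({s} : Set H) := mem_centralizer_singleton_iff.2 rfl
    obtain ⟨x, hx, e⟩ := (D.mem' _).1 (φ ⟨s, hsC⟩).2
    have e' : (⟨D.el x, D.el_mem hx⟩ : centralizer ({t} : Set G)) = φ ⟨s, hsC⟩ := Subtype.ext e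
    have hne : x ≠ idTab := by
      intro h
      have h1 : φ ⟨s, hsC⟩ = 1 := Subtype.ext (by rw [← e, h, D.el_one]; rfl)
      have h2 : (⟨s, hsC⟩ : centralizer ({s} : Set H)) = 1 := φ.injective (h1.trans φ.map_one.symm)
      exact Involutions.Basic.ne_one hs (congrArg Subtype.val h2)
    have hcen : elems.all (comm x) = true := by
      rw [List.all_eq_true]
      intro y hy
      rw [← D.commute_iff hx hy]
      have h3 : Commute (⟨D.el x, D.el_mem hx⟩ : centralizer ({t} : Set G)) ⟨D.el y, D.el_mem hy⟩ := by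
        rw [e', ← φ.apply_symm_apply ⟨D.el y, D.el_mem hy⟩]
        refine Commute.map ?_ φ
        exact Subtype.ext (mem_centralizer_singleton_iff.1 (φ.symm ⟨D.el y, D.el_mem hy⟩).2).symm
      exact congrArg Subtype.val h3.eq
    have hz : x = zT := by
      have h4 := List.all_eq_true.1 center_small x hx
      simpa [hne, hcen] using h4
    subst hz
    rw [dif_pos (D.el_mem hzm), e', φ.symm_apply_apply]

end Local

end Cfsg.Agent.M12Central
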