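import Cfsg.Agent.Lib.M12Central.CentB
import Mathlib.GroupTheory.SpecificGroups.Alternating.Simple
import Cfsg.Agent.Lib.Involutions.OrderFormula

/-!
The centraliser of the non-central involution modulo that involution, and the count of pairs for
the order formula.
-/

set_option autoImplicit false
set_option maxRecDepth 20000

namespace Cfsg.Agent.M12Central

open Cfsg.Agent.Golay.Cert Cfsg.Agent.Golay.TabList
open Cfsg.Agent.M12Central.Data Cfsg.Agent.M12Central.Facts
open Subgroup
open scoped Pointwise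

attribute [local irreducible] mulTab pack

universe u

variable {G : Type u} [Group G] [Finite G]

/-- The pairs counted inside a group with a chosen involution class. -/
def oddPairs (n : ℕ) (σ : Equiv.Perm (Fin n)) : Finset (Equiv.Perm (Fin n) × Equiv.Perm (Fin n)) :=
  let K := (Finset.univ.filter fun p => ∃ g, g * σ * g⁻¹ = p)
  (K ×ˢ K).filter fun q =>
    let x := q.1 * q.2
    let x3 := x * x * x
    let x7 := x3 * x3 * x
    x7 * x7 * x = 1

/-- The standard double transposition. -/
def double (n : ℕ) (h : 4 ≤ n) : Equiv.Perm (Fin n) :=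
  Equiv.swap ⟨0, by omega⟩ ⟨1, by omega⟩ * Equiv.swap ⟨2, by omega⟩ ⟨3, by omega⟩

theorem four_facts :
    (∀ σ : Equiv.Perm (Fin 4), σ * σ = 1 → (Finset.univ.filter fun g => g * σ = σ * g).card = 8 →
      ∃ g, g * double 4 le_rfl * g⁻¹ = σ) ∧ (oddPairs 4 (double 4 le_rfl)).card = 3 := by
  decide +kernel

theorem five_facts :
    (∀ σ : Equiv.Perm (Fin 5), σ * σ = 1 → (Finset.univ.filter fun g => g * σ = σ * g).card = 8 →
      ∃ g, g * double 5 (by omega) * g⁻¹ = σ) ∧ (oddPairs 5 (double 5 (by omega))).card = 195 := by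
  decide +kernel

theorem odd_iff_pow {K : Type*} [Group K] {x : K} (h120 : x ^ 120 = 1) :
    Odd (orderOf x) ↔ x ^ 15 = 1 := by
  constructor
  · intro h
    apply orderOf_dvd_iff_pow_eq_one.1
    have h1 : orderOf x ∣ 8 * 15 := orderOf_dvd_of_pow_eq_one h120
    exact ((Nat.Coprime.pow_left 3 (Nat.coprime_two_left.2 h)).symm).dvd_of_dvd_mul_left h1
  · intro h
    exact (show Odd 15 by decide).of_dvd_nat (orderOf_dvd_of_pow_eq_one h)

theorem card_oddPairs {Q : Type*} [Group Q] [Finite Q] {n : ℕ} (e : Q ≃* Equiv.Perm (Fin n))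
    (h4 : 4 ≤ n) {x : Q} (hx : x * x = 1)
    (hcen : Nat.card (centralizer ({x} : Set Q)) = 8)
    (hfacts : (∀ σ : Equiv.Perm (Fin n), σ * σ = 1 →
        (Finset.univ.filter fun g => g * σ = σ * g).card = 8 →
        ∃ g, g * double n h4 * g⁻¹ = σ) ∧ n ≤ 5) :
    Nat.card {p : Q × Q // IsConj x p.1 ∧ IsConj x p.2 ∧ Odd (orderOf (p.1 * p.2))} =
      (oddPairs n (double n h4)).card := by
  classical
  have hσ : (Finset.univ.filter fun g => g * e x = e x * g).card = 8 := by
    rw [← hcen, ← Fintype.card_subtype, ← Nat.card_eq_fintype_card]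
    refine Nat.card_congr (Equiv.subtypeEquiv e.symm.toEquiv fun g => ?_)
    rw [mem_centralizer_singleton_iff]
    constructor
    · intro h
      have := congrArg e.symm h
      simpa using this
    · intro h
      have := congrArg e h
      simpa using this
  obtain ⟨g0, hg0⟩ := hfacts.1 (e x) (by rw [← map_mul, hx, map_one]) hσ
  rw [← Fintype.card_coe, ← Nat.card_eq_fintype_card]
  refine Nat.card_congr (Equiv.subtypeEquiv (e.toEquiv.prodCongr e.toEquiv) fun p => ?_)
  have hc : ∀ q : Q, IsConj x q ↔ ∃ g, g * double n h4 * g⁻¹ = e q := by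
    intro q
    constructor
    · intro hq
      obtain ⟨k, rfl⟩ := isConj_iff.1 hq
      refine ⟨e k * g0, ?_⟩
      rw [map_mul, map_mul, map_inv, ← hg0]
      group
    · rintro ⟨g, hg⟩
      refine isConj_iff.2 ⟨e.symm (g * g0⁻¹), e.injective ?_⟩
      rw [map_mul, map_mul, map_inv, e.apply_symm_apply, ← hg, ← hg0]
      group
  have hdvd : Nat.card (Equiv.Perm (Fin n)) ∣ 120 := by
    rw [Nat.card_perm, Nat.card_fin]
    exact Nat.factorial_dvd_factorial (n := 5) hfacts.2
  have h15 : ∀ z : Equiv.Perm (Fin n), (z * z * z * (z * z * z) * z * (z * z * z * (z * z * z) * z) * z = 1) ↔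
      z ^ 15 = 1 := fun z => by simp only [pow_succ, pow_zero, one_mul, mul_assoc]
  simp only [oddPairs, h15, Equiv.prodCongr_apply, Prod.map_fst, Prod.map_snd, MulEquiv.toEquiv_eq_coe,
    EquivLike.coe_coe, Finset.mem_filter, Finset.mem_product, Finset.mem_univ, true_and, hc]
  rw [← orderOf_injective e.toMonoidHom e.injective (p.1 * p.2), MulEquiv.coe_toMonoidHom, map_mul,
    odd_iff_pow (orderOf_dvd_iff_pow_eq_one.1 ((_root_.orderOf_dvd_natCard _).trans hdvd))]
  tauto

theorem no_two_of_simple {Q : Type*} [Group Q] [Finite Q] [IsSimpleGroup Q] {x : Q}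
    (h : Nat.card (centralizer ({x} : Set Q)) = 8) (K : Subgroup Q) : K.index ≠ 2 := fun hK => by
  rcases (Subgroup.normal_of_index_eq_two hK).eq_bot_or_eq_top with hb | ht
  · rw [hb, Subgroup.index_bot] at hK
    have h1 := Subgroup.card_subgroup_dvd_card (centralizer ({x} : Set Q))
    rw [h, hK] at h1
    norm_num at h1
  · rw [ht, Subgroup.index_top] at hK
    norm_num at hK

namespace Local

variable {t : G} (D : Local t)

variable [IsSimpleGroup G] (hG : ¬ IsMulCommutative G)

include D hG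

set_option maxHeartbeats 1000000 in
theorem centB_count :
    (Nat.card (centralizer ({D.b} : Set G)) = 48 ∧
      Nat.card {p : G × G // IsConj t p.1 ∧ IsConj D.b p.2 ∧ D.b ∈ zpowers (p.1 * p.2)} = 3) ∨
    (Nat.card (centralizer ({D.b} : Set G)) = 240 ∧
      Nat.card {p : G × G // IsConj t p.1 ∧ IsConj D.b p.2 ∧ D.b ∈ zpowers (p.1 * p.2)} = 195) := by
  classical
  have : Fact (Nat.Prime 2) := ⟨Nat.prime_two⟩
  set H := centralizer ({D.b} : Set G) with hHdef
  have hbH : D.b ∈ H := mem_centralizer_singleton_iff.2 rfl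
  let bH : H := ⟨D.b, hbH⟩
  have hbc : ∀ x : H, x * bH = bH * x := fun x => Subtype.ext (mem_centralizer_singleton_iff.1 x.2)
  let Z := zpowers bH
  have hZmem : ∀ z : H, z ∈ Z ↔ z = 1 ∨ z = bH := by
    intro z
    constructor
    · rintro ⟨k, rfl⟩
      have h2 : orderOf bH = 2 := by rw [Subgroup.orderOf_mk]; exact D.orderOf_b
      rcases Int.even_or_odd' k with ⟨j, rfl | rfl⟩
      · left
        show bH ^ (2 * j) = 1
        exact orderOf_dvd_iff_zpow_eq_one.1 (by rw [h2]; exact ⟨j, by push_cast; ring⟩)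
      · right
        show bH ^ (2 * j + 1) = bH
        rw [zpow_add, zpow_one, orderOf_dvd_iff_zpow_eq_one.1 (by rw [h2]; exact ⟨j, by push_cast; ring⟩),
          one_mul]
    · rintro (rfl | rfl)
      exacts [one_mem _, mem_zpowers _]
  have hZn : Z.Normal := ⟨fun n hn g => by
    rcases (hZmem n).1 hn with rfl | rfl
    · simp
    · rw [hbc g, mul_inv_cancel_right]; exact mem_zpowers _⟩
  have hb2 : bH * bH = 1 := Subtype.ext (Involutions.Basic.inv_sq_one D.orderOf_b)
  -- equality in the quotient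
  have hmk : ∀ x y : H, (x : H ⧸ Z) = y ↔ (x : G) = y ∨ (x : G) = y * D.b := by
    intro x y
    rw [QuotientGroup.eq, hZmem]
    constructor
    · rintro (h | h)
      · exact Or.inl (congrArg Subtype.val (inv_mul_eq_one.1 h))
      · refine Or.inr (congrArg Subtype.val (show x = y * bH from ?_))
        calc x = x * (bH * bH) := by rw [hb2, mul_one]
          _ = x * (x⁻¹ * y) * bH := by rw [h, mul_assoc]
          _ = y * bH := by rw [mul_inv_cancel_left]
    · rintro (h | h)
      · exact Or.inl (inv_mul_eq_one.2 (Subtype.ext h))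
      · refine Or.inr ?_
        have e : x = y * bH := Subtype.ext h
        rw [e, mul_inv_rev, inv_eq_of_mul_eq_one_right hb2, mul_assoc, inv_mul_cancel, mul_one]
  let tH : H := ⟨t, D.t_mem_Cb⟩
  have ht2 := D.orderOf_t
  have htb : ∀ x : H, IsConj D.b ((x * tH * x⁻¹ * bH : H) : G) := fun x => D.conj_t_mul_b x.2
  have hnotb : ∀ g : G, IsConj t g → IsConj D.b g → False := fun g h1 h2 =>
    D.not_conj_b (h1.trans h2.symm)
  -- the image of `t`
  have htq : (tH : H ⧸ Z) ≠ 1 := by
    intro h
    rcases (hmk tH 1).1 h with h | h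
    · exact Involutions.Basic.ne_one ht2 h
    · exact D.not_conj_b (isConj_iff.2 ⟨1, by simpa [tH] using h⟩)
  have htq2 : orderOf (tH : H ⧸ Z) = 2 := by
    rw [Involutions.Basic.orderOf_two_iff]
    refine ⟨?_, htq⟩
    rw [← QuotientGroup.mk_mul, show tH * tH = 1 from Subtype.ext (Involutions.Basic.inv_sq_one ht2)]
    rfl
  have hcomm : ∀ x : H, Commute (tH : H ⧸ Z) x → (x : G) ∈ centralizer ({t} : Set G) := by
    intro x hx
    have h1 : ((x * tH * x⁻¹ : H) : H ⧸ Z) = tH := by
      rw [QuotientGroup.mk_mul, QuotientGroup.mk_mul, QuotientGroup.mk_inv, ← hx.eq,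
        mul_inv_cancel_right]
    refine mem_centralizer_singleton_iff.2 (mul_inv_eq_iff_eq_mul.1 ?_)
    rcases (hmk _ _).1 h1 with h | h
    · exact h
    · exfalso
      refine hnotb ((x * tH * x⁻¹ : H) : G) (isConj_iff.2 ⟨x.1, rfl⟩) ?_
      rw [h]
      simpa using htb 1
  -- the centraliser of the image is dihedral of order 8
  obtain ⟨hrT, hsT, hr4, hr2, hs2, hsr, hsB, hbsB, hsnot, hcov⟩ := dih_ok
  simp only [List.all_eq_true, Bool.or_eq_true, List.contains_iff_mem] at hcov
  have hTmem : ∀ x ∈ centL bT, D.el x ∈ H := by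
    intro x hx
    simp only [centL, List.mem_filter] at hx
    exact mem_centralizer_singleton_iff.2 ((D.commute_iff bT_mem hx.1).2 hx.2).symm
  have hTe : ∀ x ∈ centL bT, x ∈ elems := fun x hx => (List.mem_filter.1 hx).1
  let rH : H := ⟨D.el rT, hTmem _ hrT⟩
  let sH : H := ⟨D.el sT, hTmem _ hsT⟩
  have hre := hTe _ hrT
  have hse := hTe _ hsT
  have hrr : rH * rH = tH := Subtype.ext (by
    show D.el rT * D.el rT = t
    rw [← D.el_mul hre hre, hr2, D.z_eq])
  have hss : sH * sH = 1 := Subtype.ext (by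
    show D.el sT * D.el sT = 1
    rw [← D.el_mul hse hse, hs2, D.el_one])
  have hsrH : sH * rH = rH * (rH * rH) * sH := Subtype.ext (by
    show D.el sT * D.el rT = D.el rT * (D.el rT * D.el rT) * D.el sT
    rw [← D.el_mul hre hre, ← D.el_mul hre (D.closed hre hre),
      ← D.el_mul (D.closed hre (D.closed hre hre)) hse, ← hsr, D.el_mul hse hre])
  have hr4' : rH * rH * (rH * rH) = 1 := by
    rw [hrr]; exact Subtype.ext (Involutions.Basic.inv_sq_one ht2)
  have hword : ∀ w ∈ dihWords, w ∈ elems ∧ ∃ k : ℕ, ∃ hw : D.el w ∈ H,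
      ((⟨D.el w, hw⟩ : H) : H ⧸ Z) = (rH : H ⧸ Z) ^ k := by
    intro w hw
    have hw4 : ∃ v ∈ [idTab, rT, mulTab rT rT, mulTab rT (mulTab rT rT)], w = v ∨ w = mulTab bT v := by
      simp only [dihWords, List.mem_flatMap, List.mem_cons, List.not_mem_nil, or_false] at hw ⊢
      exact hw
    obtain ⟨v, hv, hwv⟩ := hw4
    have hrr' := D.closed hre hre
    obtain ⟨k, hve, hk⟩ : ∃ k : ℕ, v ∈ elems ∧ D.el v = D.el rT ^ k := by
      simp only [List.mem_cons, List.not_mem_nil, or_false] at hv
      rcases hv with rfl | rfl | rfl | rfl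
      · exact ⟨0, elems_basic.2.2.1, by rw [pow_zero, D.el_one]⟩
      · exact ⟨1, hre, (pow_one _).symm⟩
      · exact ⟨2, hrr', by rw [pow_two, D.el_mul hre hre]⟩
      · exact ⟨3, D.closed hre hrr', by rw [pow_succ', pow_two, D.el_mul hre hrr', D.el_mul hre hre]⟩
    have hvH : D.el v ∈ H := by rw [hk]; exact pow_mem rH.2 k
    have hvk : (⟨D.el v, hvH⟩ : H) = rH ^ k := Subtype.ext hk
    rcases hwv with rfl | rfl
    · exact ⟨hve, k, hvH, by rw [hvk, QuotientGroup.mk_pow]⟩
    · have hmem : D.el (mulTab bT v) ∈ H := by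
        rw [D.el_mul bT_mem hve]; exact mul_mem hbH hvH
      refine ⟨D.closed bT_mem hve, k, hmem, ?_⟩
      rw [← QuotientGroup.mk_pow, ← hvk, hmk]
      refine Or.inr ?_
      show D.el (mulTab bT v) = D.el v * D.b
      rw [D.el_mul bT_mem hve, (mem_centralizer_singleton_iff.1 hvH)]
  have hnotword : ∀ w, D.el w = D.el sT → w ∈ dihWords → False := fun w h hw =>
    hsnot ((D.el_inj (hword w hw).1 hse h) ▸ hw)
  have hsq2 : (sH : H ⧸ Z) * sH = 1 := by rw [← QuotientGroup.mk_mul, hss]; rfl
  have hdih : Nonempty (↥(centralizer ({(tH : H ⧸ Z)} : Set (H ⧸ Z))) ≃* DihedralGroup 4) := by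
    set R : H ⧸ Z := (rH : H ⧸ Z) with hR
    set S : H ⧸ Z := (sH : H ⧸ Z) with hS
    have hR4 : orderOf R = 4 := by
      refine orderOf_eq_prime_pow (p := 2) (n := 1) ?_ ?_
      · rw [pow_one, pow_two, hR, ← QuotientGroup.mk_mul, hrr]
        exact htq
      · rw [show (2 : ℕ) ^ (1 + 1) = 2 + 2 by norm_num, pow_add, pow_two, hR, ← QuotientGroup.mk_mul,
          ← QuotientGroup.mk_mul, hr4']
        rfl
    have hsne1 : S ≠ 1 := by
      intro h
      rcases (hmk sH 1).1 h with h | h
      · exact hnotword idTab (D.el_one.trans h.symm) (by decide +kernel)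
      · exact hnotword bT (by simpa [sH] using h.symm) (by decide +kernel)
    have hS2 : orderOf S = 2 := Involutions.Basic.orderOf_two_iff.2 ⟨hsq2, hsne1⟩
    have hSRS : S * R * S = R⁻¹ := by
      apply eq_inv_of_mul_eq_one_left
      rw [hR, hS, ← QuotientGroup.mk_mul, ← QuotientGroup.mk_mul, ← QuotientGroup.mk_mul, hsrH]
      have : rH * (rH * rH) * sH * sH * rH = 1 := by
        rw [mul_assoc (rH * (rH * rH)) sH sH, hss, mul_one]
        calc rH * (rH * rH) * rH = rH * rH * (rH * rH) := by group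
          _ = 1 := hr4'
      rw [this]; rfl
    have hy : orderOf (S * R) = 2 := by
      refine Involutions.Basic.orderOf_two_iff.2 ⟨?_, fun h => ?_⟩
      · rw [← mul_assoc, hSRS, inv_mul_cancel]
      · have := congrArg (fun z => S * z) h
        simp only [← mul_assoc, hsq2, one_mul, mul_one] at this
        rw [this, hS2] at hR4
        omega
    have hxy : S * (S * R) = R := by rw [← mul_assoc, hsq2, one_mul]
    have hord : orderOf (S * (S * R)) = 4 := by rw [hxy, hR4]
    have hne : S ≠ S * R := fun h => by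
      have := mul_eq_left.1 h.symm
      rw [this, orderOf_one] at hR4
      omega
    let φ := Involutions.Basic.dihedralHom S (S * R) hS2 hy
    have hrange : φ.range = centralizer ({(tH : H ⧸ Z)} : Set (H ⧸ Z)) := by
      rw [Involutions.Basic.dihedralHom_range]
      apply le_antisymm
      · rw [Subgroup.closure_le]
        have hsc : Commute S (tH : H ⧸ Z) := by
          show S * tH = tH * S
          rw [hS, ← QuotientGroup.mk_mul, ← QuotientGroup.mk_mul]
          exact congrArg _ (Subtype.ext (mem_centralizer_singleton_iff.1 (D.el_mem hse)))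
        have hrc : Commute R (tH : H ⧸ Z) := by
          show R * tH = tH * R
          rw [hR, ← QuotientGroup.mk_mul, ← QuotientGroup.mk_mul]
          exact congrArg _ (Subtype.ext (mem_centralizer_singleton_iff.1 (D.el_mem hre)))
        rintro z (rfl | rfl)
        exacts [mem_centralizer_singleton_iff.2 hsc.eq, mem_centralizer_singleton_iff.2 (hsc.mul_left hrc).eq]
      · intro z hz
        obtain ⟨x, rfl⟩ := QuotientGroup.mk_surjective z
        have hxC := hcomm x (mem_centralizer_singleton_iff.1 hz).symm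
        obtain ⟨i, hi, hie⟩ := (D.mem' _).1 hxC
        have hiT : i ∈ centL bT := List.mem_filter.2 ⟨hi, (D.commute_iff bT_mem hi).1
          (by rw [hie]; exact (mem_centralizer_singleton_iff.1 x.2).symm)⟩
        have hSc : S ∈ closure ({S, S * R} : Set (H ⧸ Z)) := subset_closure (by simp)
        have hRc : R ∈ closure ({S, S * R} : Set (H ⧸ Z)) := by
          have := mul_mem hSc (subset_closure (show S * R ∈ ({S, S * R} : Set (H ⧸ Z)) by simp))
          rwa [hxy] at this
        rcases hcov i hiT with h | h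
        · obtain ⟨hwe, k, hw, e⟩ := hword i h
          rw [show x = ⟨D.el i, hw⟩ from Subtype.ext hie.symm, e]
          exact pow_mem hRc k
        · rw [List.mem_map] at h
          obtain ⟨w, hw', rfl⟩ := h
          obtain ⟨hwe, k, hw, e⟩ := hword w hw'
          rw [show x = ⟨D.el w, hw⟩ * sH from Subtype.ext (by rw [← hie, D.el_mul hwe hse]; rfl),
            QuotientGroup.mk_mul, e]
          exact mul_mem (pow_mem hRc k) hSc
    let e1 := MonoidHom.ofInjective (Involutions.Basic.dihedralHom_injective S (S * R) hS2 hy hne)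
    let e2 := (e1.trans (MulEquiv.subgroupCongr hrange)).symm
    rw [hord] at e2
    exact ⟨e2⟩
  have hcard8 : Nat.card (centralizer ({(tH : H ⧸ Z)} : Set (H ⧸ Z))) = 8 := by
    rw [Nat.card_congr hdih.some.toEquiv, DihedralGroup.nat_card]
  -- the possible quotients
  obtain ⟨h0, hh0, hh0c, hh0ne⟩ := D.exists_move hG
  let h0H : H := ⟨h0, hh0⟩
  have hmoved : ((h0H * tH * h0H⁻¹ : H) : H ⧸ Z) ≠ tH := by
    intro e
    rcases (hmk _ _).1 e with e | e
    · exact hh0ne e
    · refine hnotb _ (isConj_iff.2 ⟨h0, rfl⟩ : IsConj t (h0 * t * h0⁻¹)) ?_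
      rw [show h0 * t * h0⁻¹ = t * D.b from e]
      exact D.tb_conj
  have hHcard : Nat.card H = Nat.card (H ⧸ Z) * 2 := by
    rw [Subgroup.card_eq_card_quotient_mul_card_subgroup Z, Nat.card_zpowers, Subgroup.orderOf_mk,
      D.orderOf_b]
  have hQ : Nonempty (H ⧸ Z ≃* Equiv.Perm (Fin 4)) ∨ Nonempty (H ⧸ Z ≃* Equiv.Perm (Fin 5)) := by
    have hnotsimple : ¬ ∀ K : Subgroup (H ⧸ Z), K.index ≠ 2 := by
      intro hno
      -- the involution `s` would be conjugate into the cyclic subgroup of order 4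
      have h16 : ¬ 2 ^ 4 ∣ Nat.card (H ⧸ Z) := fun h => D.card_C_b.1 (by
        rw [show centralizer ({D.b} : Set G) = H from rfl, hHcard, pow_succ]
        exact Nat.mul_dvd_mul_right h 2)
      have hfac : (Nat.card (H ⧸ Z)).factorization 2 = 3 := by
        have hdvd : 2 ^ 3 ∣ Nat.card (H ⧸ Z) := by
          have := Subgroup.card_subgroup_dvd_card (centralizer ({(tH : H ⧸ Z)} : Set (H ⧸ Z)))
          rwa [hcard8] at this
        have h1 := (Nat.Prime.pow_dvd_iff_le_factorization Nat.prime_two Nat.card_pos.ne').1 hdvd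
        have h2 : ¬ 4 ≤ (Nat.card (H ⧸ Z)).factorization 2 := fun h =>
          h16 ((Nat.Prime.pow_dvd_iff_le_factorization Nat.prime_two Nat.card_pos.ne').2 h)
        omega
      have hR2 : (rH : H ⧸ Z) ^ 2 = tH := by rw [pow_two, ← QuotientGroup.mk_mul, hrr]
      have hR4 : orderOf (rH : H ⧸ Z) = 4 := by
        refine orderOf_eq_prime_pow (p := 2) (n := 1) ?_ ?_
        · rw [pow_one, hR2]; exact htq
        · rw [pow_succ, pow_one, pow_mul, hR2, ← htq2, pow_orderOf_eq_one]
      have hle : zpowers (rH : H ⧸ Z) ≤ centralizer ({(tH : H ⧸ Z)} : Set (H ⧸ Z)) := by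
        rw [zpowers_le, mem_centralizer_singleton_iff, ← hR2, ← pow_succ, ← pow_succ']
      have hrel : (zpowers (rH : H ⧸ Z)).relIndex (centralizer ({(tH : H ⧸ Z)} : Set (H ⧸ Z))) = 2 := by
        have h1 := Subgroup.relIndex_mul_relIndex (⊥ : Subgroup (H ⧸ Z)) _ _ bot_le hle
        rw [Subgroup.relIndex_bot_left, Subgroup.relIndex_bot_left, Nat.card_zpowers, hR4, hcard8] at h1
        omega
      have hS2 : orderOf (sH : H ⧸ Z) = 2 := by
        refine Involutions.Basic.orderOf_two_iff.2 ⟨hsq2, fun h => ?_⟩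
        rcases (hmk sH 1).1 h with h | h
        · exact hnotword idTab (D.el_one.trans h.symm) (by decide +kernel)
        · exact hnotword bT (by simpa [sH] using h.symm) (by decide +kernel)
      obtain ⟨g, hg⟩ := Involutions.ThompsonTransfer.exists_conj_mem hno
        (Sylow.ofCard (centralizer ({(tH : H ⧸ Z)} : Set (H ⧸ Z))) (by rw [hcard8, hfac]; norm_num))
        _ hle hrel (sH : H ⧸ Z) hS2
      have hmid := Involutions.OrderFormula.eq_middle
        (by rw [Involutions.Basic.orderOf_conj]; exact hS2) hg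
      rw [hR4, hR2] at hmid
      obtain ⟨g', rfl⟩ := QuotientGroup.mk_surjective g
      rw [← QuotientGroup.mk_inv, ← QuotientGroup.mk_mul, ← QuotientGroup.mk_mul] at hmid
      rcases (hmk _ _).1 hmid.symm with e | e
      · refine hnotb (D.el sT) (isConj_iff.2 ⟨(g' : G)⁻¹, ?_⟩) (D.isConj_B hsB)
        refine (congrArg (fun v => (g' : G)⁻¹ * v * (g' : G)⁻¹⁻¹)
          (show t = (g' : G) * D.el sT * (g' : G)⁻¹ from e)).trans ?_
        group
      · refine hnotb (D.el (mulTab bT sT)) (isConj_iff.2 ⟨(g' : G)⁻¹, ?_⟩) (D.isConj_B hbsB)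
        have hc : (g' : G) * D.b = D.b * (g' : G) := mem_centralizer_singleton_iff.1 g'.2
        have hsb : D.el sT * D.b = D.b * D.el sT := mem_centralizer_singleton_iff.1 sH.2
        refine (congrArg (fun v => (g' : G)⁻¹ * v * (g' : G)⁻¹⁻¹)
          (show t = (g' : G) * D.el sT * (g' : G)⁻¹ * D.b from e)).trans ?_
        rw [D.el_mul bT_mem hse]
        simp only [inv_inv]
        calc (g' : G)⁻¹ * ((g' : G) * D.el sT * (g' : G)⁻¹ * D.b) * (g' : G)
            = D.el sT * ((g' : G)⁻¹ * (D.b * (g' : G))) := by group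
          _ = D.el sT * ((g' : G)⁻¹ * ((g' : G) * D.b)) := by rw [hc]
          _ = D.b * D.el sT := by rw [inv_mul_cancel_left, hsb]
    rcases Techniques.DihedralEight.Main.main (tH : H ⧸ Z) htq2 hdih with h | h | h | ⟨⟨e⟩⟩ | ⟨⟨e⟩⟩
    · exfalso
      apply hmoved
      have hmem : (h0H : H ⧸ Z) ∈ centralizer ({(tH : H ⧸ Z)} : Set (H ⧸ Z)) ⊔ Cfsg.oddCore (H ⧸ Z) :=
        h ▸ mem_top _
      rw [Subgroup.mem_sup_of_normal_right] at hmem
      obtain ⟨c, hc, o, ho, hco⟩ := hmem
      have hcm : Commute (tH : H ⧸ Z) c := (mem_centralizer_singleton_iff.1 hc).symm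
      have hcv : Commute (tH : H ⧸ Z) ((h0H * tH * h0H⁻¹ : H) : H ⧸ Z) := by
        show (tH : H ⧸ Z) * _ = _ * (tH : H ⧸ Z)
        rw [← QuotientGroup.mk_mul, ← QuotientGroup.mk_mul]
        exact congrArg _ (Subtype.ext hh0c.eq)
      rw [QuotientGroup.mk_mul, QuotientGroup.mk_mul, QuotientGroup.mk_inv, ← hco] at hcv ⊢
      generalize (tH : H ⧸ Z) = v at htq2 hcm hcv ⊢
      set w := o * v * o⁻¹ with hw
      have e1 : c * o * v * (c * o)⁻¹ = c * w * c⁻¹ := by rw [hw]; group
      rw [e1] at hcv ⊢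
      have hvw : Commute v w := by
        have := hcv.map (MulAut.conj c⁻¹)
        simp only [MulAut.conj_apply, inv_inv] at this
        rwa [show c⁻¹ * v * c = v by rw [mul_assoc, hcm.eq, inv_mul_cancel_left],
          show c⁻¹ * (c * w * c⁻¹) * c = w by group] at this
      have hv2 := Involutions.Basic.inv_sq_one htq2
      have hwv : w * v ∈ Cfsg.oddCore (H ⧸ Z) := by
        rw [hw, show o * v * o⁻¹ * v = o * (v * o⁻¹ * v⁻¹) by
          rw [Involutions.Basic.inv_eq htq2]; group]
        exact mul_mem ho ((inferInstance : (Cfsg.oddCore (H ⧸ Z)).Normal).conj_mem _ (inv_mem ho) v)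
      have hsq : (w * v) ^ 2 = 1 := by
        rw [hvw.symm.mul_pow, pow_two, pow_two, hv2, mul_one, hw,
          show o * v * o⁻¹ * (o * v * o⁻¹) = o * (v * v) * o⁻¹ by group, hv2]
        group
      have h1 : w * v = 1 := by
        have hd : orderOf (w * v) ∣ 2 := orderOf_dvd_of_pow_eq_one hsq
        have ho' : Odd (orderOf (w * v)) :=
          Cores.oddCore_odd.of_dvd_nat (Subgroup.orderOf_dvd_natCard _ hwv)
        rcases (Nat.dvd_prime Nat.prime_two).1 hd with h | h
        · exact orderOf_eq_one_iff.1 h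
        · rw [h] at ho'; exact absurd ho' (by decide)
      have hwv' : w = v := (eq_inv_of_mul_eq_one_left h1).trans (Involutions.Basic.inv_eq htq2)
      rw [hwv', ← hcm.eq, mul_inv_cancel_right]
    · exact Or.inl h
    · exact Or.inr h
    · exfalso
      have hcen : Subgroup.center (Matrix.SpecialLinearGroup (Fin 3) (ZMod 2)) = ⊥ := by
        rw [← Subgroup.card_eq_one, Classical.Linear.natCard_center_SL, ZMod.card]; rfl
      have : Fact (Nat.Prime 2) := ⟨Nat.prime_two⟩
      have hs : IsSimpleGroup (Matrix.ProjectiveSpecialLinearGroup (Fin 3) (ZMod 2)) :=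
        Classical.Linear.isSimpleGroup_PSL (by simp)
      have f : H ⧸ Z ≃* Matrix.ProjectiveSpecialLinearGroup (Fin 3) (ZMod 2) :=
        e.trans ((QuotientGroup.quotientMulEquivOfEq hcen).trans QuotientGroup.quotientBot).symm
      have : IsSimpleGroup (H ⧸ Z) := f.isSimpleGroup_congr.mpr hs
      exact hnotsimple (no_two_of_simple hcard8)
    · exfalso
      have hs : IsSimpleGroup (alternatingGroup (Fin 6)) := alternatingGroup.isSimpleGroup (by simp)
      have : IsSimpleGroup (H ⧸ Z) := e.isSimpleGroup_congr.mpr hs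
      exact hnotsimple (no_two_of_simple hcard8)
  -- the pairs
  have hTclass : ∀ x : H, IsConj t (x : G) → IsConj tH x := by
    intro x hx
    have hC16 := D.card_C_b.2.2
    set T := (centralizer ({t} : Set G) ⊓ centralizer ({D.b} : Set G)).subgroupOf H
    have hTc : Nat.card T = 16 := by
      rw [Nat.card_congr (Subgroup.subgroupOfEquivOfLe (show _ ≤ H from inf_le_right)).toEquiv, hC16]
    have hfac : (Nat.card H).factorization 2 = 4 := by
      have hdvd : 2 ^ 4 ∣ Nat.card H := by
        have := Subgroup.card_subgroup_dvd_card T; rwa [hTc] at this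
      have h1 := (Nat.Prime.pow_dvd_iff_le_factorization Nat.prime_two Nat.card_pos.ne').1 hdvd
      have h2 : ¬ 5 ≤ (Nat.card H).factorization 2 := fun h =>
        D.card_C_b.1 ((Nat.Prime.pow_dvd_iff_le_factorization Nat.prime_two Nat.card_pos.ne').2 h)
      omega
    obtain ⟨k, hk⟩ := isConj_iff.1 hx
    have hx2 : orderOf (x : G) = 2 := by rw [← hk, Involutions.Basic.orderOf_conj, ht2]
    have hp : IsPGroup 2 (zpowers x) :=
      IsPGroup.of_card (n := 1) (by rw [Nat.card_zpowers, ← Subgroup.orderOf_coe, hx2, pow_one])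
    obtain ⟨P, hP⟩ := hp.exists_le_sylow
    obtain ⟨g, hg⟩ := MulAction.exists_smul_eq H P (Sylow.ofCard T (by rw [hTc, hfac]; norm_num))
    have hmemT : g * x * g⁻¹ ∈ T := by
      have h1 : g * x * g⁻¹ ∈ MulAut.conj g • (P : Subgroup H) :=
        Subgroup.smul_mem_pointwise_smul x (MulAut.conj g) _ (hP (mem_zpowers x))
      have h2 : MulAut.conj g • (P : Subgroup H) = T := by
        exact congrArg (fun Q : Sylow 2 H => (Q : Subgroup H)) hg
      rwa [h2] at h1
    obtain ⟨i, hi, hie, hcase⟩ := D.exists_type hmemT.1 (by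
      show orderOf ((g : G) * x * (g : G)⁻¹) = 2
      rw [Involutions.Basic.orderOf_conj, hx2])
    have hti : IsConj t (D.el i) := by
      rw [hi]; exact hx.trans (isConj_iff.2 ⟨g, rfl⟩)
    have hiT : i ∈ centL bT := List.mem_filter.2 ⟨hie, (D.commute_iff bT_mem hie).1
      (by rw [hi]; exact (mem_centralizer_singleton_iff.1 hmemT.2).symm)⟩
    have hback : IsConj (g * x * g⁻¹) x := (isConj_iff.2 ⟨g, rfl⟩ : IsConj x _).symm
    refine IsConj.trans ?_ hback
    obtain ⟨hT, -⟩ := T_ok
    simp only [Bool.and_eq_true, List.all_eq_true, Bool.or_eq_true, beq_iff_eq,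
      Bool.not_eq_true', List.contains_eq_mem, decide_eq_false_iff_not] at hT
    obtain ⟨⟨⟨⟨-, -⟩, -⟩, hTC⟩, hTA⟩ := hT
    rcases hcase with rfl | h | h | h
    · exact isConj_iff.2 ⟨1, Subtype.ext (by simpa [tH, D.z_eq] using hi)⟩
    · -- both elements of the four-group other than `t`
      have hcf := centB_facts
      simp only [Bool.and_eq_true, List.any_eq_true, beq_iff_eq] at hcf
      obtain ⟨⟨⟨⟨⟨⟨⟨w, hwT, hwe⟩, -⟩, -⟩, -⟩, -⟩, -⟩, -⟩ := hcf
      have hz := elems_basic.2.2.2
      have hzaT : mulTab zT aT ∈ centL bT := A8_facts.2.2.2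
      have haT' : aT ∈ centL bT := A8_facts.2.2.1
      let aH : H := ⟨D.el aT, hTmem _ haT'⟩
      let zaH : H := ⟨D.el (mulTab zT aT), hTmem _ hzaT⟩
      have hswap : IsConj aH zaH := isConj_iff.2 ⟨⟨D.el w, hTmem _ hwT⟩,
        Subtype.ext (D.conj_eq (hTe _ hwT) aT_mem (hTe _ hzaT) hwe)⟩
      obtain ⟨j, hj, hje, hjcase⟩ := D.exists_type (g := h0 * t * h0⁻¹)
        (mem_centralizer_singleton_iff.2 hh0c.eq.symm) (by rw [Involutions.Basic.orderOf_conj, ht2])
      have htj : IsConj t (D.el j) := by rw [hj]; exact isConj_iff.2 ⟨h0, rfl⟩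
      have hjT : j ∈ centL bT := List.mem_filter.2 ⟨hje, (D.commute_iff bT_mem hje).1 (by
        rw [hj]
        exact (mem_centralizer_singleton_iff.1 ((h0H * tH * h0H⁻¹ : H)).2).symm)⟩
      have hall : ∀ k ∈ centL bT, k ∈ clA → k = aT ∨ k = mulTab zT aT := fun k hk hkA => by
        rcases hTA k hk with (h1 | h1) | h1
        · exact absurd hkA h1
        · exact Or.inl h1
        · exact Or.inr h1
      have hta : IsConj tH aH := by
        rcases hjcase with rfl | h' | h' | h'
        · exact absurd (hj.symm.trans D.z_eq) hh0ne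
        · rcases hall j hjT h' with rfl | rfl
          · exact isConj_iff.2 ⟨h0H, Subtype.ext hj.symm⟩
          · exact (isConj_iff.2 ⟨h0H, Subtype.ext hj.symm⟩ : IsConj tH zaH).trans hswap.symm
        · exact absurd (htj.trans (D.isConj_B h').symm) D.not_conj_b
        · exact absurd h' (hTC j hjT)
      rcases hall i hiT h with rfl | rfl
      · exact hta.trans (isConj_iff.2 ⟨1, Subtype.ext (by simpa [aH] using hi)⟩)
      · exact (hta.trans hswap).trans (isConj_iff.2 ⟨1, Subtype.ext (by simpa [zaH] using hi)⟩)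
    · exact absurd (hti.trans (D.isConj_B h).symm) D.not_conj_b
    · exact absurd h (hTC i hiT)
  have hcount : Nat.card {p : G × G // IsConj t p.1 ∧ IsConj D.b p.2 ∧ D.b ∈ zpowers (p.1 * p.2)} =
      Nat.card {p : (H ⧸ Z) × (H ⧸ Z) // IsConj (tH : H ⧸ Z) p.1 ∧ IsConj (tH : H ⧸ Z) p.2 ∧
        Odd (orderOf (p.1 * p.2))} := by
    have hord : ∀ x : G, IsConj t x → orderOf x = 2 := fun x hx => by
      obtain ⟨k, hk⟩ := isConj_iff.1 hx
      rw [← hk, Involutions.Basic.orderOf_conj, ht2]
    have hordb : ∀ x : G, IsConj D.b x → orderOf x = 2 := fun x hx => by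
      obtain ⟨k, hk⟩ := isConj_iff.1 hx
      rw [← hk, Involutions.Basic.orderOf_conj, D.orderOf_b]
    have hmem : ∀ p : G × G, IsConj t p.1 → IsConj D.b p.2 → D.b ∈ zpowers (p.1 * p.2) →
        p.1 ∈ H ∧ p.2 ∈ H := by
      intro p h1 h2 h3
      have hx := hord _ h1
      have hy := hordb _ h2
      obtain ⟨-, hc1, hc2⟩ := Involutions.Basic.middle_involution hx hy
        (Involutions.Basic.even_orderOf_mul_of_not_isConj hx hy fun h => hnotb p.2 (h1.trans h) h2)
      rw [← Involutions.OrderFormula.eq_middle D.orderOf_b h3] at hc1 hc2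
      exact ⟨mem_centralizer_singleton_iff.2 hc1.eq.symm, mem_centralizer_singleton_iff.2 hc2.eq.symm⟩
    -- `b` is not a square in its centraliser
    have hnsq : ∀ z : H, z * z ≠ bH := by
      intro z hz
      have hz4 : z ^ 4 = 1 := by rw [show 4 = 2 + 2 from rfl, pow_add, pow_two, hz, hb2]
      have hp : IsPGroup 2 (zpowers z) := by
        obtain ⟨k, -, hk⟩ := (Nat.dvd_prime_pow Nat.prime_two).1
          (show orderOf z ∣ 2 ^ 2 from orderOf_dvd_of_pow_eq_one hz4)
        exact IsPGroup.of_card (n := k) (by rw [Nat.card_zpowers, hk])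
      obtain ⟨P, hP⟩ := hp.exists_le_sylow
      set T := (centralizer ({t} : Set G) ⊓ centralizer ({D.b} : Set G)).subgroupOf H
      have hTc : Nat.card T = 16 := by
        rw [Nat.card_congr (Subgroup.subgroupOfEquivOfLe (show _ ≤ H from inf_le_right)).toEquiv,
          D.card_C_b.2.2]
      have hfac : (Nat.card H).factorization 2 = 4 := by
        have hdvd : 2 ^ 4 ∣ Nat.card H := by
          have := Subgroup.card_subgroup_dvd_card T; rwa [hTc] at this
        have h1 := (Nat.Prime.pow_dvd_iff_le_factorization Nat.prime_two Nat.card_pos.ne').1 hdvd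
        have h2 : ¬ 5 ≤ (Nat.card H).factorization 2 := fun h =>
          D.card_C_b.1 ((Nat.Prime.pow_dvd_iff_le_factorization Nat.prime_two Nat.card_pos.ne').2 h)
        omega
      obtain ⟨g, hg⟩ := MulAction.exists_smul_eq H P (Sylow.ofCard T (by rw [hTc, hfac]; norm_num))
      have hzT : g * z * g⁻¹ ∈ T := by
        have h1 : g * z * g⁻¹ ∈ MulAut.conj g • (P : Subgroup H) :=
          Subgroup.smul_mem_pointwise_smul z (MulAut.conj g) _ (hP (mem_zpowers z))
        have h2 : MulAut.conj g • (P : Subgroup H) = T := by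
          exact congrArg (fun Q : Sylow 2 H => (Q : Subgroup H)) hg
        rwa [h2] at h1
      obtain ⟨i, hie, hi⟩ := (D.mem' _).1 hzT.1
      have hiT : i ∈ centL bT := List.mem_filter.2 ⟨hie, (D.commute_iff bT_mem hie).1
        (by rw [hi]; exact (mem_centralizer_singleton_iff.1 hzT.2).symm)⟩
      have hsqi : D.el (mulTab i i) = D.b := by
        rw [D.el_mul hie hie, hi]
        have : (g * z * g⁻¹) * (g * z * g⁻¹) = bH := by
          rw [show (g * z * g⁻¹) * (g * z * g⁻¹) = g * (z * z) * g⁻¹ by group, hz, hbc g,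
            mul_inv_cancel_right]
        exact congrArg Subtype.val this
      obtain ⟨hT, -⟩ := T_ok
      simp only [Bool.and_eq_true, List.all_eq_true, Bool.not_eq_true', beq_eq_false_iff_ne] at hT
      exact hT.1.1.2 i hiT (D.el_inj (D.closed hie hie) bT_mem hsqi)
    let F : {p : G × G // IsConj t p.1 ∧ IsConj D.b p.2 ∧ D.b ∈ zpowers (p.1 * p.2)} →
        (H ⧸ Z) × (H ⧸ Z) := fun p =>
      (((⟨p.1.1, (hmem p.1 p.2.1 p.2.2.1 p.2.2.2).1⟩ : H) : H ⧸ Z),
        ((⟨p.1.2, (hmem p.1 p.2.1 p.2.2.1 p.2.2.2).2⟩ : H) : H ⧸ Z))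
    have hF : ∀ p, IsConj (tH : H ⧸ Z) (F p).1 ∧ IsConj (tH : H ⧸ Z) (F p).2 ∧
        Odd (orderOf ((F p).1 * (F p).2)) := by
      rintro ⟨⟨x, y⟩, hx, hy, hb⟩
      obtain ⟨hxH, hyH⟩ := hmem (x, y) hx hy hb
      let xH : H := ⟨x, hxH⟩
      let yH : H := ⟨y, hyH⟩
      have h1 : IsConj (tH : H ⧸ Z) (xH : H ⧸ Z) := (QuotientGroup.mk' Z).map_isConj (hTclass xH hx)
      have heven := Involutions.Basic.even_orderOf_mul_of_not_isConj (hord _ hx) (hordb _ hy)
        (fun h => hnotb y (hx.trans h) hy)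
      have hk : orderOf (xH * yH) = orderOf (x * y) := (Subgroup.orderOf_coe _).symm
      have hmidH : bH = (xH * yH) ^ (orderOf (xH * yH) / 2) := by
        rw [hk]
        exact Subtype.ext ((Involutions.OrderFormula.eq_middle D.orderOf_b hb).trans (by simp [xH, yH]))
      have hodd : Odd (orderOf ((xH : H ⧸ Z) * (yH : H ⧸ Z))) := by
        rw [← QuotientGroup.mk_mul]
        set m := orderOf ((xH * yH : H) : H ⧸ Z) with hm
        have hdvd : m ∣ orderOf (xH * yH) / 2 := by
          apply orderOf_dvd_of_pow_eq_one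
          rw [← QuotientGroup.mk_pow, ← hmidH]
          exact (QuotientGroup.eq_one_iff _).2 (mem_zpowers _)
        by_contra hnodd
        obtain ⟨j, hj⟩ := Nat.not_odd_iff_even.1 hnodd
        have hpow : (xH * yH) ^ m ∈ Z := by
          rw [← QuotientGroup.eq_one_iff, QuotientGroup.mk_pow, hm, pow_orderOf_eq_one]
        rcases (hZmem _).1 hpow with e | e
        · have h4 := orderOf_dvd_of_pow_eq_one e
          have h5 : orderOf (xH * yH) ∣ orderOf (xH * yH) / 2 := h4.trans hdvd
          have hpos : 0 < orderOf (xH * yH) := orderOf_pos _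
          have h6 : 0 < orderOf (xH * yH) / 2 := by
            obtain ⟨i, hi⟩ := hk ▸ heven
            omega
          have := Nat.le_of_dvd h6 h5
          omega
        · rw [hj, pow_add] at e
          exact hnsq _ e
      refine ⟨h1, h1.trans ?_, hodd⟩
      have hqx : orderOf (xH : H ⧸ Z) = 2 := by
        obtain ⟨k, hk'⟩ := isConj_iff.1 h1
        rw [← hk', Involutions.Basic.orderOf_conj, htq2]
      have hqy2 : (yH : H ⧸ Z) * yH = 1 := by
        rw [← QuotientGroup.mk_mul,
          show yH * yH = 1 from Subtype.ext (Involutions.Basic.inv_sq_one (hordb _ hy))]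
        rfl
      by_cases hy1 : (yH : H ⧸ Z) = 1
      · rw [hy1, mul_one, hqx] at hodd
        exact absurd hodd (by decide)
      obtain ⟨d, -, hd⟩ := Involutions.Basic.exists_conj_of_odd hqx
        (Involutions.Basic.orderOf_two_iff.2 ⟨hqy2, hy1⟩) hodd
      exact isConj_iff.2 ⟨d, hd⟩
    refine Nat.card_congr (Equiv.ofBijective (fun p => ⟨F p, hF p⟩) ⟨?_, ?_⟩)
    · rintro ⟨⟨x, y⟩, hx, hy, hb⟩ ⟨⟨x', y'⟩, hx', hy', hb'⟩ h
      have h1 := congrArg (fun q => q.1.1) h
      have h2 := congrArg (fun q => q.1.2) h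
      simp only [F, hmk] at h1 h2
      obtain ⟨hxH, hyH⟩ := hmem (x, y) hx hy hb
      obtain ⟨hxH', hyH'⟩ := hmem (x', y') hx' hy' hb'
      have ex : x = x' := by
        rcases h1 with e | e
        · exact e
        · exfalso
          obtain ⟨k, hk⟩ := isConj_iff.1 (hTclass ⟨x', hxH'⟩ hx')
          refine hnotb x hx ?_
          rw [e, show x' = ((k * tH * k⁻¹ : H) : G) from (congrArg Subtype.val hk).symm]
          exact htb k
      have ey : y = y' := by
        rcases h2 with e | e
        · exact e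
        · exfalso
          have hqy : IsConj (tH : H ⧸ Z) ((⟨y', hyH'⟩ : H) : H ⧸ Z) := (hF ⟨(x', y'), hx', hy', hb'⟩).2.1
          obtain ⟨k, hk⟩ := isConj_iff.1 hqy
          obtain ⟨k', rfl⟩ := QuotientGroup.mk_surjective k
          rw [← QuotientGroup.mk_inv, ← QuotientGroup.mk_mul, ← QuotientGroup.mk_mul, hmk] at hk
          rcases hk with e' | e'
          · exact hnotb y' (isConj_iff.2 ⟨k', e'⟩) hy'
          · refine hnotb y ?_ hy
            have e2 : ((k' * tH * k'⁻¹ : H) : G) = y := e'.trans e.symm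
            rw [← e2]
            exact isConj_iff.2 ⟨k', rfl⟩
      subst ex ey
      rfl
    · rintro ⟨⟨p, q⟩, hp, hq, hodd⟩
      obtain ⟨k, rfl⟩ := isConj_iff.1 hp
      obtain ⟨k', rfl⟩ := isConj_iff.1 hq
      obtain ⟨k, rfl⟩ := QuotientGroup.mk_surjective k
      obtain ⟨k', rfl⟩ := QuotientGroup.mk_surjective k'
      let xH : H := k * tH * k⁻¹
      let yH : H := k' * tH * k'⁻¹ * bH
      have hx : IsConj t (xH : G) := isConj_iff.2 ⟨k, rfl⟩
      have hy : IsConj D.b (yH : G) := htb k'
      have hqy : (yH : H ⧸ Z) = (k' : H ⧸ Z) * tH * (k' : H ⧸ Z)⁻¹ := by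
        rw [show yH = k' * tH * k'⁻¹ * bH from rfl, QuotientGroup.mk_mul,
          (QuotientGroup.eq_one_iff bH).2 (mem_zpowers _), mul_one]
        rfl
      have hbz : D.b ∈ zpowers ((xH : G) * yH) := by
        set m := orderOf ((k : H ⧸ Z) * tH * (k : H ⧸ Z)⁻¹ * ((k' : H ⧸ Z) * tH * (k' : H ⧸ Z)⁻¹))
        have heven := Involutions.Basic.even_orderOf_mul_of_not_isConj (hord _ hx) (hordb _ hy)
          (fun h => hnotb _ (hx.trans h) hy)
        have hpow : (xH * yH) ^ m ∈ Z := by
          rw [← QuotientGroup.eq_one_iff, QuotientGroup.mk_pow, QuotientGroup.mk_mul, hqy]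
          exact pow_orderOf_eq_one _
        rcases (hZmem _).1 hpow with e | e
        · exfalso
          have h4 : orderOf ((xH : G) * yH) ∣ m := orderOf_dvd_of_pow_eq_one (by
            have := congrArg Subtype.val e; simpa using this)
          have := Odd.of_dvd_nat hodd h4
          exact (Nat.not_even_iff_odd.2 this) heven
        · have e' : ((xH : G) * yH) ^ m = D.b := congrArg Subtype.val e
          rw [← e']
          exact pow_mem (mem_zpowers _) m
      exact ⟨⟨((xH : G), (yH : G)), hx, hy, hbz⟩, Subtype.ext (Prod.ext rfl hqy)⟩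
  have htq_sq : (tH : H ⧸ Z) * tH = 1 := Involutions.Basic.inv_sq_one htq2
  rcases hQ with ⟨⟨e⟩⟩ | ⟨⟨e⟩⟩
  · left
    refine ⟨?_, ?_⟩
    · rw [hHcard, Nat.card_congr e.toEquiv, Nat.card_perm, Nat.card_eq_fintype_card, Fintype.card_fin]
      rfl
    · rw [hcount, card_oddPairs e le_rfl htq_sq hcard8 ⟨four_facts.1, by omega⟩, four_facts.2]
  · right
    refine ⟨?_, ?_⟩
    · rw [hHcard, Nat.card_congr e.toEquiv, Nat.card_perm, Nat.card_eq_fintype_card, Fintype.card_fin]
      rfl
    · rw [hcount, card_oddPairs e (by omega) htq_sq hcard8 ⟨five_facts.1, le_rfl⟩, five_facts.2]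

end Local

end Cfsg.Agent.M12Central
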