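import Cfsg.Agent.Lib.M12Central.Fusion

/-!
The involutions outside the elementary abelian subgroup of order 8 cannot form one class: the
normaliser of that subgroup would be strongly embedded.
-/

set_option autoImplicit false
set_option maxRecDepth 20000

namespace Cfsg.Agent.M12Central

open Cfsg.Agent.Golay.Cert Cfsg.Agent.Golay.TabList
open Cfsg.Agent.M12Central.Data Cfsg.Agent.M12Central.Facts
open Subgroup

universe u

variable {G : Type u} [Group G] [Finite G]

/-- The tables of the elementary abelian subgroup of order 8. -/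
def A8 : List ℕ := idTab :: zT :: clA

namespace Local

variable {t : G} (D : Local t)

theorem A8_facts : A8.Nodup ∧ (∀ x ∈ A8, x ∈ elems) ∧ aT ∈ centL bT ∧
    mulTab zT aT ∈ centL bT := by
  decide +kernel

variable [IsSimpleGroup G] (hG : ¬ IsMulCommutative G)

include D hG

theorem strong_contradiction (hbc : IsConj D.b D.c) (htc : ¬ IsConj t D.c) : False := by
  classical
  obtain ⟨hnd, hsub, haT, hzaT⟩ := A8_facts
  have hA8 := A8_ok
  simp only [Bool.and_eq_true, List.all_eq_true, List.any_eq_true, closedList, beq_iff_eq,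
    List.contains_iff_mem, Bool.or_eq_true] at hA8
  obtain ⟨⟨⟨hclosed, hcomm⟩, hsq⟩, x0, hx0, hx0sq⟩ := hA8
  obtain ⟨A, hAC, hAcard, hAmem⟩ := D.exists_subgroup (l := A8) hsub (List.mem_cons_self ..)
    (fun x hx y hy => hclosed x hx y hy) hnd
  have hAabel : ∀ p ∈ A, ∀ q ∈ A, Commute p q := by
    intro p hp q hq
    obtain ⟨i, hi, rfl⟩ := (hAmem p).1 hp
    obtain ⟨j, hj, rfl⟩ := (hAmem q).1 hq
    exact (D.commute_iff (hsub i hi) (hsub j hj)).2 (hcomm i hi j hj)
  have htA : t ∈ A := (hAmem t).2 ⟨zT, by simp [A8], D.z_eq⟩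
  have hta := D.conj_a hG
  -- the conjugates of `t` in its centraliser are the involutions of `A`
  have hclass : ∀ g ∈ centralizer ({t} : Set G), IsConj t g → g ∈ A := by
    intro g hg htg
    obtain ⟨k, hk⟩ := isConj_iff.1 htg
    obtain ⟨x, rfl, -, hcase⟩ := D.exists_type hg
      (by rw [← hk, Involutions.Basic.orderOf_conj, D.orderOf_t])
    rcases hcase with rfl | h | h | h
    · rwa [D.z_eq]
    · exact (hAmem _).2 ⟨x, by simp [A8, h], rfl⟩
    · exact absurd (htg.trans (D.isConj_B h).symm) D.not_conj_b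
    · exact absurd (htg.trans (D.isConj_C h).symm) htc
  have hAconj : ∀ g ∈ A, g = 1 ∨ IsConj t g := by
    intro g hg
    obtain ⟨x, hx, rfl⟩ := (hAmem g).1 hg
    simp only [A8, List.mem_cons] at hx
    rcases hx with rfl | rfl | h
    · exact Or.inl D.el_one
    · exact Or.inr (by rw [D.z_eq])
    · exact Or.inr (hta.trans (D.isConj_A h))
  -- mapping `t` into `A` normalises `A`
  have hnorm : ∀ g : G, g * t * g⁻¹ ∈ A → ∀ p ∈ A, g * p * g⁻¹ ∈ A := by
    intro g hg
    have hback : ∀ p ∈ A, g⁻¹ * p * g ∈ A := by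
      intro p hp
      rcases hAconj p hp with rfl | hc
      · simpa using one_mem A
      refine hclass _ (mem_centralizer_singleton_iff.2 ?_) (hc.trans (isConj_iff.2 ⟨g⁻¹, by group⟩))
      have := (hAabel p hp _ hg).map (MulAut.conj g⁻¹)
      simpa [mul_assoc, Commute, SemiconjBy] using this.eq
    let f : A → A := fun p => ⟨g⁻¹ * p.1 * g, hback p.1 p.2⟩
    have hf : Function.Injective f := fun p q h => by
      have := congrArg Subtype.val h
      exact Subtype.ext (by simpa [f] using this)
    intro p hp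
    obtain ⟨q, hq⟩ := Finite.injective_iff_surjective.1 hf ⟨p, hp⟩
    have : g⁻¹ * q.1 * g = p := congrArg Subtype.val hq
    rw [← this]
    simpa [mul_assoc] using q.2
  let M : Subgroup G :=
    { carrier := {g | g * t * g⁻¹ ∈ A}
      one_mem' := by simpa using htA
      mul_mem' := fun {g h} hg hh => by
        have := hnorm g hg _ hh
        simpa [mul_assoc] using this
      inv_mem' := fun {g} hg => by
        obtain ⟨q, hq⟩ : ∃ q ∈ A, g * q * g⁻¹ = t := by
          let f : A → A := fun p => ⟨g * p.1 * g⁻¹, hnorm g hg p.1 p.2⟩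
          have hf : Function.Injective f := fun p q h =>
            Subtype.ext ((MulAut.conj g).injective (congrArg Subtype.val h))
          obtain ⟨q, hq⟩ := Finite.injective_iff_surjective.1 hf ⟨t, htA⟩
          exact ⟨q.1, q.2, congrArg Subtype.val hq⟩
        show g⁻¹ * t * g⁻¹⁻¹ ∈ A
        rw [← hq.2]
        simpa [mul_assoc] using hq.1 }
  have hCt : centralizer ({t} : Set G) ≤ M := fun g hg => by
    show g * t * g⁻¹ ∈ A
    rwa [mem_centralizer_singleton_iff.1 hg, mul_inv_cancel_right]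
  -- centralisers of conjugates within `M`
  have hcmove : ∀ k ∈ M, ∀ w : G, centralizer ({w} : Set G) ≤ M →
      centralizer ({k * w * k⁻¹} : Set G) ≤ M := by
    intro k hk w hw g hg
    have h1 : k⁻¹ * g * k ∈ centralizer ({w} : Set G) := mem_centralizer_singleton_iff.2 (by
      have := congrArg (fun v => k⁻¹ * v * k) (mem_centralizer_singleton_iff.1 hg)
      simpa [mul_assoc] using this)
    have := mul_mem (mul_mem hk (hw h1)) (inv_mem hk)
    simpa [mul_assoc] using this
  have hCA : ∀ v ∈ A, v ≠ 1 → centralizer ({v} : Set G) ≤ M := by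
    intro v hv hne
    obtain ⟨k, rfl⟩ := isConj_iff.1 ((hAconj v hv).resolve_left hne)
    exact hcmove k hv t hCt
  -- `C(b) ∩ M` fixes `t`
  have hMb : ∀ g ∈ M, g ∈ centralizer ({D.b} : Set G) → g ∈ centralizer ({t} : Set G) := by
    intro g hgM hgb
    have hx0e := hsub x0 hx0
    have hxb := D.closed hx0e bT_mem
    have e0 : D.el x0 * D.b * (D.el x0 * D.b) = t := by
      rw [← D.el_mul hx0e bT_mem, ← D.el_mul hxb hxb, hx0sq, D.z_eq]
    obtain ⟨x1, hx1, e1⟩ := (hAmem _).1 (hnorm g hgM _ ((hAmem _).2 ⟨x0, hx0, rfl⟩))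
    have hxb1 := D.closed (hsub x1 hx1) bT_mem
    have hgb' : g * D.b * g⁻¹ = D.b := by
      rw [mem_centralizer_singleton_iff.1 hgb, mul_inv_cancel_right]
    have e2 : D.el (mulTab (mulTab x1 bT) (mulTab x1 bT)) = g * t * g⁻¹ := by
      rw [D.el_mul hxb1 hxb1, D.el_mul (hsub x1 hx1) bT_mem, e1]
      calc g * D.el x0 * g⁻¹ * D.b * (g * D.el x0 * g⁻¹ * D.b)
          = g * D.el x0 * g⁻¹ * (g * D.b * g⁻¹) * (g * D.el x0 * g⁻¹ * (g * D.b * g⁻¹)) := by
            rw [hgb']
        _ = g * (D.el x0 * D.b * (D.el x0 * D.b)) * g⁻¹ := by group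
        _ = g * t * g⁻¹ := by rw [e0]
    refine mem_centralizer_singleton_iff.2 (mul_inv_eq_iff_eq_mul.1 ?_)
    rcases hsq x1 hx1 with h | h
    · rw [h, D.el_one] at e2
      exact absurd (conj_eq_one_iff.1 e2.symm) (Involutions.Basic.ne_one D.orderOf_t)
    · rw [h, D.z_eq] at e2
      exact e2.symm
  -- `C(b) ≤ C(t)`
  have haC : ∀ x ∈ centL bT, D.el x ∈ centralizer ({D.b} : Set G) := by
    intro x hx
    simp only [centL, List.mem_filter] at hx
    exact mem_centralizer_singleton_iff.2 ((D.commute_iff bT_mem hx.1).2 hx.2).symm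
  have hCb : centralizer ({D.b} : Set G) ≤ centralizer ({t} : Set G) := by
    set H := centralizer ({D.b} : Set G)
    have htH : t ∈ H :=
      mem_centralizer_singleton_iff.2 (mem_centralizer_singleton_iff.1 (D.el_mem bT_mem)).symm
    have hiso : Cfsg.IsIsolatedInvolution (⟨t, htH⟩ : H) := by
      refine ⟨by rw [Subgroup.orderOf_mk]; exact D.orderOf_t, fun g hg => ?_⟩
      have hg' : Commute t (g.1 * t * g.1⁻¹) := congrArg Subtype.val hg.eq
      have hA' : g.1 * t * g.1⁻¹ ∈ A :=
        hclass _ (mem_centralizer_singleton_iff.2 hg'.symm) (isConj_iff.2 ⟨g.1, rfl⟩)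
      have hfix := mem_centralizer_singleton_iff.1 (hMb g.1 hA' g.2)
      exact Subtype.ext (by simp [hfix])
    have hO : Cfsg.oddCore H = ⊥ := by
      rw [eq_bot_iff]
      intro y hy
      have hodd : Odd (Nat.card (Cfsg.oddCore H)) := Cores.oddCore_odd
      -- no non-trivial element is fixed by an involution of `A`
      have hfix : ∀ x ∈ centL bT, x ∈ A8 → x ≠ idTab → ∀ w ∈ Cfsg.oddCore H,
          Commute (D.el x) (w : G) → w = 1 := by
        intro x hx hxA hxne w hw hcw
        have hxe := hsub x hxA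
        have hwM : (w : G) ∈ M := hCA _ ((hAmem _).2 ⟨x, hxA, rfl⟩)
          (fun h => hxne ((D.el_eq_one hxe).1 h)) (mem_centralizer_singleton_iff.2 hcw.eq.symm)
        have hw16 : orderOf (w : G) ∣ 16 := by
          rw [← (D.card_C_b).2.2]
          exact Subgroup.orderOf_dvd_natCard _ ⟨hMb _ hwM w.2, w.2⟩
        have hwodd : Odd (orderOf (w : G)) := by
          rw [Subgroup.orderOf_coe]
          exact hodd.of_dvd_nat (Subgroup.orderOf_dvd_natCard _ hw)
        have h1 : orderOf (w : G) = 1 := by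
          obtain ⟨k, -, hk⟩ := (Nat.dvd_prime_pow Nat.prime_two).1 (show orderOf (w : G) ∣ 2 ^ 4 from hw16)
          rcases k with _ | k
          · simpa using hk
          · rw [hk] at hwodd
            exact absurd hwodd (Nat.not_odd_iff_even.2 ⟨2 ^ k, by ring⟩)
        exact Subtype.ext (orderOf_eq_one_iff.1 h1)
      have hinvert : ∀ x ∈ centL bT, x ∈ A8 → x ≠ idTab →
          ∀ w ∈ Cfsg.oddCore H, D.el x * (w : G) * (D.el x)⁻¹ = (w : G)⁻¹ := by
        intro x hx hxA hxne w hw
        let v : H := ⟨D.el x, haC x hx⟩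
        let φ : Cfsg.oddCore H → Cfsg.oddCore H := fun p =>
          ⟨v * p.1 * v⁻¹, (inferInstance : (Cfsg.oddCore H).Normal).conj_mem _ p.2 v⟩
        have hv2 : D.el x * D.el x = 1 := by
          rcases hAconj _ ((hAmem _).2 ⟨x, hxA, rfl⟩) with h | h
          · rw [h, one_mul]
          · obtain ⟨k, hk⟩ := isConj_iff.1 h
            rw [← hk]
            exact Involutions.Basic.inv_sq_one (by rw [Involutions.Basic.orderOf_conj]; exact D.orderOf_t)
        have hfp : MonoidHom.FixedPointFree φ := fun p hp => by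
          refine Subtype.ext (hfix x hx hxA hxne p.1 p.2 ?_)
          have := congrArg (fun q : Cfsg.oddCore H => ((q.1 : H) : G)) hp
          exact mul_inv_eq_iff_eq_mul.1 this
        have hinvol : Function.Involutive φ := fun p => by
          apply Subtype.ext; apply Subtype.ext
          show D.el x * (D.el x * (p.1 : G) * (D.el x)⁻¹) * (D.el x)⁻¹ = (p.1 : G)
          rw [show D.el x * (D.el x * (p.1 : G) * (D.el x)⁻¹) * (D.el x)⁻¹ =
            D.el x * D.el x * (p.1 : G) * (D.el x * D.el x)⁻¹ by group, hv2]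
          group
        let ψ : Cfsg.oddCore H →* Cfsg.oddCore H := MonoidHom.mk' φ fun p q => by
          apply Subtype.ext
          show v * (p.1 * q.1) * v⁻¹ = v * p.1 * v⁻¹ * (v * q.1 * v⁻¹)
          group
        have := congrFun (MonoidHom.FixedPointFree.coe_eq_inv_of_involutive (φ := ψ) hfp hinvol)
          ⟨w, hw⟩
        exact congrArg (fun q : Cfsg.oddCore H => ((q.1 : H) : G)) this
      have haA : aT ∈ A8 ∧ mulTab zT aT ∈ A8 ∧ zT ∈ A8 ∧ zT ∈ centL bT ∧ aT ≠ idTab ∧
          mulTab zT aT ≠ idTab ∧ zT ≠ idTab := by decide +kernel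
      obtain ⟨h1, h2, h3, h4, h5, h6, h7⟩ := haA
      have i1 := hinvert aT haT h1 h5 y hy
      have i2 := hinvert zT h4 h3 h7 y hy
      rw [D.z_eq] at i2
      refine Subgroup.mem_bot.2 (hfix _ hzaT h2 h6 y hy ?_)
      rw [D.el_mul elems_basic.2.2.2 (hsub _ h1), D.z_eq]
      refine (mul_inv_eq_iff_eq_mul.1 ?_)
      calc t * D.el aT * (y : G) * (t * D.el aT)⁻¹ = t * (D.el aT * (y : G) * (D.el aT)⁻¹) * t⁻¹ := by
            group
        _ = t * (y : G)⁻¹ * t⁻¹ := by rw [i1]
        _ = (t * (y : G) * t⁻¹)⁻¹ := by group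
        _ = (y : G) := by rw [i2, inv_inv]
    have hc := ZStar.Main.mem_center_of_isolated hO hiso
    intro g hg
    exact mem_centralizer_singleton_iff.2
      (congrArg Subtype.val (Subgroup.mem_center_iff.1 hc ⟨g, hg⟩))
  have hCbM := hCb.trans hCt
  -- `C(c) ≤ M`
  have hCc : centralizer ({D.c} : Set G) ≤ M := by
    obtain ⟨g, hg⟩ := isConj_iff.1 hbc
    have hgM : g ∈ M := by
      have h1 : g⁻¹ * t * g ∈ centralizer ({D.b} : Set G) := mem_centralizer_singleton_iff.2 (by
        have h := mem_centralizer_singleton_iff.1 (D.el_mem cT_mem)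
        change D.c * t = t * D.c at h
        rw [← hg] at h
        have := congrArg (fun v => g⁻¹ * v * g) h.symm
        simpa [mul_assoc] using this)
      have h2 : g⁻¹ ∈ M := by
        show g⁻¹ * t * g⁻¹⁻¹ ∈ A
        rw [inv_inv]
        exact hclass _ (hCb h1) (isConj_iff.2 ⟨g⁻¹, by group⟩)
      simpa using inv_mem h2
    rw [← hg]
    exact hcmove g hgM _ hCbM
  -- every involution commuting with `t` has its centraliser in `M`
  have hCw : ∀ w ∈ centralizer ({t} : Set G), orderOf w = 2 → centralizer ({w} : Set G) ≤ M := by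
    intro w hw hw2
    obtain ⟨x, rfl, hx, hcase⟩ := D.exists_type hw hw2
    rcases hcase with rfl | h | h | h
    · rwa [D.z_eq]
    · exact hCA _ ((hAmem _).2 ⟨x, by simp [A8, h], rfl⟩) (Involutions.Basic.ne_one hw2)
    · obtain ⟨k, hk, e⟩ := D.class_conj classB_ok h
      rw [← e]
      exact hcmove k (hCt hk) _ hCbM
    · obtain ⟨k, hk, e⟩ := D.class_conj classC_ok h
      rw [← e]
      exact hcmove k (hCt hk) _ hCc
  have hb2 : orderOf D.b = 2 := (D.orderOf_two bT_mem).2 (classB_mem reps_mem.2.1).2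
  have hbM : ∀ g : G, g * D.b * g⁻¹ ∈ M := by
    intro g
    have hy2 : orderOf (g * D.b * g⁻¹) = 2 := by rw [Involutions.Basic.orderOf_conj, hb2]
    have hnc : ¬ IsConj t (g * D.b * g⁻¹) :=
      fun h => D.not_conj_b (h.trans (isConj_iff.2 ⟨g⁻¹, by group⟩))
    obtain ⟨h2, hcx, hcy⟩ := Involutions.Basic.middle_involution D.orderOf_t hy2
      (Involutions.Basic.even_orderOf_mul_of_not_isConj D.orderOf_t hy2 hnc)
    exact hCw _ (mem_centralizer_singleton_iff.2 hcx.eq) h2 (mem_centralizer_singleton_iff.2 hcy.eq.symm)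
  have hMtop : M = ⊤ := by
    have hle : Subgroup.normalClosure {D.b} ≤ M := by
      rw [Subgroup.normalClosure, Subgroup.closure_le]
      intro p hp
      obtain ⟨q, rfl, hc⟩ := Group.mem_conjugatesOfSet_iff.1 hp
      obtain ⟨k, rfl⟩ := isConj_iff.1 hc
      exact hbM k
    rcases (inferInstance : (Subgroup.normalClosure {D.b}).Normal).eq_bot_or_eq_top with h | h
    · exfalso
      have hb : D.b ∈ Subgroup.normalClosure ({D.b} : Set G) :=
        Subgroup.subset_normalClosure rfl
      rw [h, Subgroup.mem_bot] at hb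
      exact Involutions.Basic.ne_one hb2 hb
    · exact top_le_iff.1 (h ▸ hle)
  have hAn : A.Normal := ⟨fun p hp g => hnorm g (show g ∈ M from hMtop ▸ mem_top g) p hp⟩
  rcases hAn.eq_bot_or_eq_top with h | h
  · rw [h, Subgroup.mem_bot] at htA
    exact Involutions.Basic.ne_one D.orderOf_t htA
  · exact hG ⟨⟨fun p q => (hAabel p (h ▸ mem_top p) q (h ▸ mem_top q)).eq⟩⟩

theorem conj_c : IsConj t D.c :=
  (D.c_cases hG).resolve_right fun h => D.strong_contradiction hG h.1 h.2

end Local

end Cfsg.Agent.M12Central
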